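import Cfsg.Agent.Lib.Transfer.Basic
import Cfsg.Agent.Lib.Cores.Basic

/-!
Elements of order prime to `p` in a group with a normal `p`-complement.
-/

set_option autoImplicit false

namespace CfsgLib.OddLocal.Ten

open Cfsg Subgroup

variable {G : Type*} [Group G] [Finite G] {p : ℕ} [hp : Fact p.Prime]

theorem mem_pPrimeCore_iff (h : HasNormalPComplement p G) {x : G} :
    x ∈ pPrimeCore p G ↔ (orderOf x).Coprime p := by
  refine ⟨fun hx => Nat.Coprime.coprime_dvd_left (orderOf_dvd_natCard _ hx)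
    (CfsgLib.Cores.coprime_card_pPrimeCore p), fun hx => ?_⟩
  obtain ⟨N, hN, hc, k, hk⟩ := CfsgLib.Transfer.hasNormalPComplement_iff.1 h
  exact CfsgLib.Cores.le_pPrimeCore hc ((CfsgLib.Transfer.mem_iff_coprime_orderOf hc hk x).2 hx)

theorem index_pPrimeCore_eq_pow (h : HasNormalPComplement p G) :
    ∃ k, (pPrimeCore p G).index = p ^ k := by
  obtain ⟨N, hN, hc, k, hk⟩ := CfsgLib.Transfer.hasNormalPComplement_iff.1 h
  obtain ⟨j, -, hj⟩ := (Nat.dvd_prime_pow hp.out).1
    (hk ▸ index_dvd_of_le (CfsgLib.Cores.le_pPrimeCore hc))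
  exact ⟨j, hj⟩

end CfsgLib.OddLocal.Ten
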