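import Cfsg.Agent.Lib.OddLocal.Ten.Basic

/-!
Criteria for `p`-length one.
-/

set_option autoImplicit false

namespace CfsgLib.OddLocal.Ten

open Cfsg Subgroup CfsgLib.PGroup

variable {G H : Type*} [Group G] [Group H] {p : ℕ} [Finite G] [hp : Fact p.Prime]

theorem useries_two_eq (p : ℕ) [Fact p.Prime] : useries p G 2 = pPrimePCore p G := by
  set N := pPrimeCore p G with hN
  set π := QuotientGroup.mk' N
  have hn2 : ((useries p G 2).map π).Normal :=
    (useries_normal p G 2).map π (QuotientGroup.mk'_surjective N)
  refine le_antisymm ?_ ?_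
  · show useries p G 2 ≤ (pCore p (G ⧸ N)).comap π
    rw [← map_le_iff_le_comap]
    obtain ⟨k, hk⟩ := (stepCond_series (p := p) (G := G) 1).2 (by decide)
    rw [useries_one, relIndex_eq_card_map] at hk
    exact CfsgLib.Cores.le_pCore (IsPGroup.of_card hk)
  · have hpn : (pCore p (G ⧸ N)).Normal := Subgroup.sSup_normal _ fun _ h => h.1
    have : (pPrimePCore p G).Normal := Subgroup.Normal.comap hpn _
    refine le_series_succ (n := 1) ⟨fun hn => absurd hn (by decide), fun _ => ?_⟩
    rw [useries_one, relIndex_eq_card_map]
    unfold pPrimePCore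
    rw [map_comap_eq_self_of_surjective (QuotientGroup.mk'_surjective _)]
    exact (CfsgLib.Cores.isPGroup_pCore p).exists_card_eq

theorem pLengthLE_one_of_index (h : ((useries p G 2).index).Coprime p) : PLengthLE p 1 G := by
  refine top_le_iff.1 (le_series_succ (n := 2) (N := (⊤ : Subgroup G)) ⟨fun _ => ?_, fun hn => absurd ⟨1, rfl⟩ hn⟩)
  rwa [relIndex_top_right]

theorem index_useries_two (h : PLengthLE p 1 G) : ((useries p G 2).index).Coprime p := by
  have h1 := (stepCond_series (p := p) (G := G) 2).1 ⟨1, rfl⟩
  rwa [show useries p G (2 + 1) = ⊤ from h, relIndex_top_right] at h1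

theorem index_pPrimePCore (h : PLengthLE p 1 G) : ((pPrimePCore p G).index).Coprime p :=
  useries_two_eq (G := G) p ▸ index_useries_two h

theorem pLengthLE_one_of_pPrimePCore (h : ((pPrimePCore p G).index).Coprime p) : PLengthLE p 1 G :=
  pLengthLE_one_of_index ((useries_two_eq (G := G) p).symm ▸ h)

theorem pLengthLE_one_of_not_dvd (h : ¬ p ∣ Nat.card G) : PLengthLE p 1 G :=
  pLengthLE_one_of_index (Nat.Coprime.coprime_dvd_left (index_dvd_card _)
    (hp.out.coprime_iff_not_dvd.2 h).symm)

theorem useries_characteristic (n : ℕ) : (useries p G n).Characteristic := by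
  rw [characteristic_iff_map_le]
  intro φ
  have h := map_series_le (p := p) φ.toMonoidHom φ.surjective (a := 0) (b := 0) Iff.rfl
    (by show (⊥ : Subgroup G).map _ ≤ _; rw [Subgroup.map_bot]; exact bot_le) n
  rwa [zero_add] at h

/-- `p`-length at most one passes to subgroups. -/
theorem pLengthLE_one_of_injective [Finite H] (f : H →* G) (hf : Function.Injective f)
    (h : PLengthLE p 1 G) : PLengthLE p 1 H := by
  have h1 : (useries p G 1).comap f ≤ useries p H 1 := by
    have : ((useries p G 1).comap f).Normal := (useries_normal p G 1).comap f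
    refine le_series_succ (n := 0) ⟨fun _ => ?_, fun hn => absurd Even.zero hn⟩
    rw [show useries p H 0 = ⊥ from rfl, relIndex_bot_left]
    refine Nat.Coprime.coprime_dvd_left (card_comap_dvd_of_injective _ f hf) ?_
    rw [useries_one]
    exact CfsgLib.Cores.coprime_card_pPrimeCore p
  have hn2 : ((useries p G 2).comap f).Normal := (useries_normal p G 2).comap f
  have h2 : (useries p G 2).comap f ≤ useries p H 2 := by
    refine le_series_succ (n := 1) (((stepCond_series (p := p) (G := G) 1)).of_dvd ?_)
    refine (relIndex_dvd_of_le_left _ h1).trans ?_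
    rw [relIndex_comap]
    exact CfsgLib.PGroup.relIndex_dvd_of_le_right (map_comap_le f _)
  refine pLengthLE_one_of_index (Nat.Coprime.coprime_dvd_left ((index_dvd_of_le h2).trans ?_)
    (index_useries_two h))
  rw [index_comap]
  exact relIndex_dvd_index_of_normal _ _

theorem pLengthLE_one_subgroup {K L : Subgroup G} (hKL : K ≤ L) (h : PLengthLE p 1 L) :
    PLengthLE p 1 K :=
  pLengthLE_one_of_injective (Subgroup.inclusion hKL) (inclusion_injective hKL) h

/-- A normal subgroup of index prime to `p` and `p`-length one. -/
theorem pLengthLE_one_of_normal (K : Subgroup G) [K.Normal] (hi : ¬ p ∣ K.index)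
    (h : PLengthLE p 1 K) : PLengthLE p 1 G := by
  have := useries_characteristic (p := p) (G := K) 2
  have hn : ((useries p K 2).map K.subtype).Normal := ConjAct.normal_of_characteristic_of_normal
  have h1 : (useries p K 1).map K.subtype ≤ useries p G 1 := by
    rw [useries_one, useries_one]
    exact CfsgLib.Cores.map_subtype_pPrimeCore_le_of_normal p K
  have h2 : (useries p K 2).map K.subtype ≤ useries p G 2 := by
    refine le_series_succ (n := 1) ((stepCond_series (p := p) (G := K) 1).of_dvd ?_)
    exact relIndex_map_le K.subtype h1 rfl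
  refine pLengthLE_one_of_index (Nat.Coprime.coprime_dvd_left (index_dvd_of_le h2) ?_)
  rw [index_map_subtype]
  exact (index_useries_two h).mul_left (hp.out.coprime_iff_not_dvd.2 hi).symm

end CfsgLib.OddLocal.Ten
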