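import Cfsg.Agent.Lib.OddLocal.Ten.Basic
import Cfsg.Agent.Lib.Cores.Fitting

/-!
Generalities used for the quotient by a normal Hall subgroup: ranks of quotients, and `q`-subgroups
of normal nilpotent subgroups.
-/

set_option autoImplicit false

namespace CfsgLib.OddLocal.Ten

open Cfsg Subgroup
open scoped Pointwise commutatorElement

variable {G : Type*} [Group G] [Finite G]

/-- Factoring out a normal subgroup of order prime to `q` does not raise the `q`-rank. -/
theorem pRankLE_quotient {q k : ℕ} [hq : Fact q.Prime] (N : Subgroup G) [N.Normal]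
    (hN : ¬ q ∣ Nat.card N) (h : PRankLE q k G) : PRankLE q k (G ⧸ N) := by
  refine CfsgLib.PGroup.pRankLE_iff.2 fun A hA => ?_
  set π := QuotientGroup.mk' N
  obtain ⟨S, hS⟩ := exists_sylIn (p := q) (A.comap π)
  have hSA : S.map π ≤ A := map_le_iff_le_comap.2 hS.1
  have heq : S.map π = A := by
    refine eq_of_le_of_card_ge hSA (Nat.le_of_dvd Nat.card_pos ?_)
    obtain ⟨n, hn⟩ := (CfsgLib.PGroup.elemAb_isPGroup hA).exists_card_eq
    have h1 : (S.map π).relIndex A ∣ S.relIndex (A.comap π) := by
      have h2 : ((S.map π).comap π).relIndex (A.comap π) ∣ S.relIndex (A.comap π) :=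
        relIndex_dvd_of_le_left _ (le_comap_map π S)
      rwa [relIndex_comap, map_comap_eq_self_of_surjective (QuotientGroup.mk'_surjective N)] at h2
    have h3 : (S.map π).relIndex A ∣ q ^ n := hn ▸ relIndex_dvd_card _ _
    have h4 : (S.map π).relIndex A = 1 := Nat.eq_one_of_dvd_coprimes
      ((Nat.Coprime.pow_left n) ((hq.out.coprime_iff_not_dvd).2 hS.2.2)) h3 h1
    exact card_dvd_of_le (relIndex_eq_one.1 h4)
  have hinj : ∀ x ∈ S, π x = 1 → x = 1 := by
    intro x hx h1
    have hd : Disjoint S N := by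
      refine disjoint_of_coprime_natCard ?_
      obtain ⟨n, hn⟩ := hS.2.1.exists_card_eq
      rw [hn]
      exact Nat.Coprime.pow_left _ ((hq.out.coprime_iff_not_dvd).2 hN)
    exact (mem_bot).1 (hd.le_bot ⟨hx, (QuotientGroup.eq_one_iff x).1 h1⟩)
  have hSe : IsElementaryAbelian q S := by
    refine CfsgLib.PGroup.isElementaryAbelian_mk (fun a ha b hb => ?_) (fun a ha => ?_)
    · refine commutatorElement_eq_one_iff_mul_comm.1 (hinj _ ?_ ?_)
      · rw [commutatorElement_def]
        exact mul_mem (mul_mem (mul_mem ha hb) (inv_mem ha)) (inv_mem hb)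
      · rw [map_commutatorElement]
        exact commutatorElement_eq_one_iff_mul_comm.2
          (CfsgLib.PGroup.elemAb_comm hA (hSA (mem_map_of_mem π ha)) (hSA (mem_map_of_mem π hb)))
    · refine hinj _ (pow_mem ha q) ?_
      rw [map_pow]
      exact hA.2 _ (hSA (mem_map_of_mem π ha))
  rw [← heq]
  exact (Nat.le_of_dvd Nat.card_pos (S.card_map_dvd π)).trans (CfsgLib.PGroup.pRankLE_iff.1 h S hSe)

/-- A `q`-subgroup of a normal nilpotent subgroup lies in `O_q(G)`. -/
theorem le_pCore_of_le_nilpotent {q : ℕ} [Fact q.Prime] {K X : Subgroup G} [K.Normal]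
    (hK : Group.IsNilpotent K) (hX : IsPGroup q X) (hXK : X ≤ K) : X ≤ pCore q G := by
  obtain ⟨S, hS⟩ := (hX.comap_of_injective K.subtype K.subtype_injective).exists_le_sylow
  have hSn : (S : Subgroup K).Normal :=
    S.normal_of_normalizerCondition Group.normalizerCondition_of_isNilpotent
  have := S.characteristic_of_normal hSn
  have hn : ((S : Subgroup K).map K.subtype).Normal :=
    ConjAct.normal_of_characteristic_of_normal
  refine le_trans (fun x hx => ?_) (CfsgLib.Cores.le_pCore (hN := S.isPGroup'.map K.subtype))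
  exact ⟨⟨x, hXK hx⟩, hS hx, rfl⟩

end CfsgLib.OddLocal.Ten
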