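import Cfsg.Agent.Lib.OddLocal.Ten.Sigma
import Cfsg.Agent.Lib.Transfer.Fusion

/-!
For `p ∈ σ(M)` and a non-identity `p`-subgroup `X`, the centraliser of `X` is transitive on the
conjugates of `M` containing `X`. Consequently a Sylow `p`-subgroup of `M` lies in `M'`.
-/

set_option autoImplicit false

namespace CfsgLib.OddLocal.Ten

open Cfsg Subgroup CfsgLib.Solvable
open scoped Pointwise

universe u

variable {G : Type u} [Group G] [Finite G] {p : ℕ} [hp : Fact p.Prime] {M : Subgroup G}

/-- `C(X)` is transitive on the conjugates of `M` containing `X`. -/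
def TransOn (M X : Subgroup G) : Prop :=
  ∀ g h : G, X ≤ MulAut.conj g • M → X ≤ MulAut.conj h • M →
    ∃ c ∈ centralizer (X : Set G), MulAut.conj (c * g) • M = MulAut.conj h • M

/-- For `p`-rank at most two in `L`, `L` is `O_{p'}(L)` times the normalizer of a Sylow subgroup. -/
theorem exists_frattini_mul {L : Subgroup G} {Q : Subgroup G} (hQ : SylIn p Q L)
    (hcop : ((pPrimePCore p L).index).Coprime p) {l : G} (hl : l ∈ L) :
    ∃ n ∈ (pPrimeCore p L).map L.subtype, ∃ u ∈ L ⊓ normalizer (Q : Set G), l = n * u := by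
  obtain ⟨S, rfl⟩ := hQ.exists_sylow
  set N := pPrimeCore p L with hN
  have hNn : N.Normal := inferInstanceAs (pPrimeCore p L).Normal
  set H := pPrimePCore p L with hH
  have hHn : H.Normal := by
    have := CfsgLib.Cores.isPGroup_pCore (G := L ⧸ pPrimeCore p L) p
    exact Subgroup.Normal.comap inferInstance _
  have hnH : ¬ p ∣ H.index := (CfsgLib.Cores.coprime_iff_not_dvd hp.out _).1 hcop
  have hSH : (S : Subgroup L) ≤ H :=
    SylIn.le_of_normal_hall S.isPGroup' le_top (normalizer_eq_top_iff.2 hHn).ge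
      (by rwa [relIndex_top_right])
  have hNH : N ≤ H := fun x hx => by
    show QuotientGroup.mk' N x ∈ pCore p (L ⧸ N)
    have h1 : QuotientGroup.mk' N x = 1 := (QuotientGroup.eq_one_iff x).2 hx
    exact h1 ▸ one_mem _
  have hsup : N ⊔ (S : Subgroup L) = H := by
    refine le_antisymm (sup_le hNH hSH) (relIndex_eq_one.1 ?_)
    obtain ⟨k, hk⟩ := (CfsgLib.Cores.isPGroup_pCore (G := L ⧸ N) p).exists_card_eq
    have h1 : N.relIndex H = p ^ k := by
      rw [CfsgLib.PGroup.relIndex_eq_card_map, hH]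
      unfold pPrimePCore
      rw [map_comap_eq_self_of_surjective (QuotientGroup.mk'_surjective _)]
      exact hk
    have h2 : (N ⊔ (S : Subgroup L)).relIndex H ∣ p ^ k :=
      h1 ▸ relIndex_dvd_of_le_left H le_sup_left
    have h3 : (N ⊔ (S : Subgroup L)).relIndex H ∣ (S : Subgroup L).index :=
      ((relIndex_dvd_of_le_left H le_sup_right).trans (relIndex_mul_index hSH ▸ dvd_mul_right _ _))
    exact Nat.eq_one_of_dvd_coprimes
      ((Nat.Coprime.pow_left k) ((hp.out.coprime_iff_not_dvd).2 S.not_dvd_index)) h2 h3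
  have h := Sylow.normalizer_sup_eq_top (S.subtype hSH)
  rw [Sylow.coe_subtype, subgroupOf_map_subtype, inf_eq_left.2 hSH, ← hsup] at h
  have htop : N ⊔ normalizer ((S : Subgroup L) : Set L) = ⊤ := by
    refine eq_top_iff.2 (h.ge.trans (sup_le le_sup_right (sup_le le_sup_left ?_)))
    exact le_normalizer.trans le_sup_right
  obtain ⟨n, hn, u, hu, e⟩ := mem_sup_of_normal_left.1 (htop ▸ mem_top (⟨l, hl⟩ : L))
  refine ⟨n, mem_map_of_mem _ hn, u, ⟨u.2, ?_⟩, congrArg Subtype.val e.symm⟩
  exact le_normalizer_map L.subtype (mem_map_of_mem _ hu)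

variable (hG : IsMinSimpleOddOrder G) (hU : UniqHyp G) (h50 : RankTwoHyp.{u})
include hG hU h50

theorem transOn_of_sigma (hM : IsCoatom M) (hσ : p ∈ sigma M) :
    ∀ X : Subgroup G, IsPGroup p X → X ≠ ⊥ → TransOn M X := by
  intro X
  induction X using WellFoundedGT.induction with
  | _ X ih =>
    intro hXp hX1 g h hg hh
    have hsub : ∀ k : G, X ≤ MulAut.conj k • M → MulAut.conj k⁻¹ • X ≤ M := fun k hk => by
      have := conj_smul_mono k⁻¹ hk
      rwa [conj_smul_conj_smul, inv_mul_cancel, map_one, one_smul] at this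
    by_cases hsyl : SylIn p X ⊤
    · refine ⟨1, one_mem _, ?_⟩
      rw [one_mul]
      have hS : ∀ k : G, X ≤ MulAut.conj k • M → SylIn p (MulAut.conj k⁻¹ • X) M := fun k hk => by
        have h1 := hsyl.conj k⁻¹
        refine h1.of_le (hsub k hk) ?_
        intro x _
        exact mem_conj_smul_iff.2 (mem_top _)
      obtain ⟨m, hm, he⟩ := (hS h hh).exists_conj_eq (hS g hg)
      have hn : g⁻¹ * h * m ∈ normalizer ((MulAut.conj g⁻¹ • X : Subgroup G) : Set G) := by
        refine mem_normalizer_iff_conj_smul.2 ?_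
        rw [show MulAut.conj (g⁻¹ * h * m) • (MulAut.conj g⁻¹ • X) =
          MulAut.conj (g⁻¹ * h) • (MulAut.conj m • (MulAut.conj g⁻¹ • X)) from
            (conj_smul_conj_smul _ _ _).symm, he, conj_smul_conj_smul]
        group
      have hn' := normalizer_sylIn_le hσ (hS g hg) hn
      have hgh : g⁻¹ * h ∈ M := by
        have := mul_mem hn' (inv_mem hm)
        rwa [mul_inv_cancel_right] at this
      calc MulAut.conj g • M = MulAut.conj g • (MulAut.conj (g⁻¹ * h) • M) := by
            rw [conj_smul_self_of_mem_normalizer (le_normalizer hgh)]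
        _ = MulAut.conj h • M := by rw [conj_smul_conj_smul, mul_inv_cancel_left]
    -- `X` is not a Sylow subgroup
    set L := normalizer (X : Set G) with hL
    have hXL : X ≤ L := le_normalizer
    have hXtop : X ≠ ⊤ := pGroup_ne_top hG hXp
    have hLtop : L ≠ ⊤ := normalizer_ne_top hG hX1 hXtop
    obtain ⟨Q, hQ, hXQ⟩ := exists_sylIn_ge hXp hXL
    have hXltQ : X < Q := by
      refine lt_of_le_of_ne hXQ fun e => ?_
      obtain ⟨Y, hY, hYp, -, hYL⟩ := exists_gt_normalizer hXp le_top hsyl
      exact hY.ne ((e ▸ hQ).eq_of_le hYp hYL hY.le)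
    -- some conjugate of `M` contains `Q`
    obtain ⟨P, hP⟩ := exists_sylIn (p := p) M
    obtain ⟨k₀, -, hk₀⟩ := (sylIn_top_of_sigma hσ hP).exists_conj_le hQ.2.1 le_top
    have hQk : Q ≤ MulAut.conj k₀⁻¹ • M := by
      have := conj_smul_mono k₀⁻¹ (hk₀.trans hP.1)
      rwa [conj_smul_conj_smul, inv_mul_cancel, map_one, one_smul] at this
    set M2 := MulAut.conj k₀⁻¹ • M with hM2
    -- every member is conjugate under `L` to `M2`
    have hmem : ∀ k : G, X ≤ MulAut.conj k • M → ∃ l ∈ L, MulAut.conj (l * k) • M = M2 := by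
      intro k hk
      have hns : ¬ SylIn p (MulAut.conj k⁻¹ • X) M := fun hc => hsyl <| by
        have h1 := (sylIn_top_of_sigma hσ hc).conj k
        rw [conj_smul_conj_smul, mul_inv_cancel, map_one, one_smul] at h1
        refine ⟨le_top, hXp, ?_⟩
        have h2 := h1.2.2
        rwa [show (MulAut.conj k • (⊤ : Subgroup G)) = ⊤ from eq_top_iff.2 fun x _ =>
          mem_conj_smul_iff.2 (mem_top _)] at h2
      obtain ⟨Y, hY, hYp, hYM, hYN⟩ := exists_gt_normalizer
        (hXp.map (MulAut.conj k⁻¹).toMonoidHom) (hsub k hk) hns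
      have hXY : X < MulAut.conj k • Y := by
        refine lt_of_le_of_ne ?_ fun e => hY.ne ?_
        · have := conj_smul_mono k hY.le
          rwa [← conj_smul_eq_map, conj_smul_conj_smul, mul_inv_cancel, map_one, one_smul] at this
        · rw [← conj_smul_eq_map, e, conj_smul_conj_smul, inv_mul_cancel, map_one, one_smul]
      have hYL : MulAut.conj k • Y ≤ L := by
        have := conj_smul_mono k hYN
        rwa [← normalizer_conj_smul, ← conj_smul_eq_map, conj_smul_conj_smul, mul_inv_cancel, map_one,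
          one_smul] at this
      obtain ⟨l, hl, hlY⟩ := hQ.exists_conj_le (hYp.map (MulAut.conj k).toMonoidHom) hYL
      have hXl : X < MulAut.conj l • (MulAut.conj k • Y) := by
        refine lt_of_le_of_ne ?_ fun e => hXY.ne ?_
        · have := conj_smul_mono l hXY.le
          rwa [conj_smul_self_of_mem_normalizer hl] at this
        · calc X = MulAut.conj l⁻¹ • X := (conj_smul_self_of_mem_normalizer (inv_mem hl)).symm
            _ = MulAut.conj k • Y := by rw [e, conj_smul_conj_smul, inv_mul_cancel, map_one, one_smul]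
      obtain ⟨c, hc, hce⟩ := ih _ hXl ((hYp.map _).map _) (fun e => hX1 (le_bot_iff.1 (e ▸ hXl.le)))
        (l * k) k₀⁻¹
        (by rw [conj_smul_conj_smul]; exact conj_smul_mono _ hYM)
        (hlY.trans hQk)
      exact ⟨c * l, mul_mem (centralizer_le_normalizer _ (centralizer_le hXl.le hc)) hl, by
        rw [mul_assoc]; exact hce⟩
    -- `L` moves `M2` only as `C(X)` does
    have hfix : ∀ l ∈ L, ∃ c ∈ centralizer (X : Set G), MulAut.conj c • M2 = MulAut.conj l • M2 := by
      have hM2c : IsCoatom M2 :=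
        ((OrderIso.isCoatom_iff (MulEquiv.mapSubgroup (MulAut.conj k₀⁻¹)) M).2 hM :)
      by_cases hr : PRankLE p 2 L
      · have hsolv := isSolvable_of_ne_top hG hLtop
        have hpL : p ∣ Nat.card L := by
          obtain ⟨n, hn⟩ := hXp.exists_card_eq
          rcases n with _ | n
          · exact absurd (Subgroup.card_eq_one.1 (by simpa using hn)) hX1
          · exact (dvd_pow_self p n.succ_ne_zero).trans (hn ▸ card_dvd_of_le hXL)
        have hcop := (h50 L (odd_card_subgroup hG L) p hpL hr).2.2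
        intro l hl
        obtain ⟨n, hn, u, hu, rfl⟩ := exists_frattini_mul hQ hcop hl
        have hnC : n ∈ centralizer (X : Set G) := by
          obtain ⟨n', hn', rfl⟩ := hn
          refine mem_centralizer_iff.2 fun x hx => ?_
          have hXn : (X.subgroupOf L).Normal := (normal_subgroupOf_iff_le_normalizer hXL).2 le_rfl
          have hd : Disjoint (X.subgroupOf L) (pPrimeCore p L) := by
            refine disjoint_of_coprime_natCard ?_
            obtain ⟨a, ha⟩ := (hXp.comap_of_injective L.subtype L.subtype_injective).exists_card_eq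
            unfold Subgroup.subgroupOf
            rw [ha]
            exact Nat.Coprime.pow_left _ (Nat.Coprime.symm (CfsgLib.Cores.coprime_card_pPrimeCore p))
          exact congrArg Subtype.val
            (commute_of_normal_of_disjoint _ _ hXn inferInstance hd ⟨x, hXL hx⟩ n' hx hn').eq
        obtain ⟨c, hc, hce⟩ := ih Q hXltQ hQ.2.1 (fun e => hX1 (le_bot_iff.1 (e ▸ hXQ)))
          k₀⁻¹ (u * k₀⁻¹) hQk (by
            rw [← conj_smul_conj_smul, ← hM2]
            have := conj_smul_mono u hQk
            rwa [conj_smul_self_of_mem_normalizer hu.2] at this)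
        refine ⟨n * c, mul_mem hnC (centralizer_le hXQ hc), ?_⟩
        rw [hM2, conj_smul_conj_smul, conj_smul_conj_smul, mul_assoc, mul_assoc,
          ← conj_smul_conj_smul n, ← conj_smul_conj_smul n (u * k₀⁻¹), hce]
      · intro l hl
        refine ⟨1, one_mem _, ?_⟩
        obtain ⟨A, hAQ, hA, hAc⟩ := hQ.exists_elemAb hr
        have huniq := inUniqueMaximal_of_elemAb hU (pGroup_ne_top hG hQ.2.1) hAQ hA hAc
        rw [map_one, one_smul,
          conj_smul_self_of_mem_normalizer (le_normalizer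
            (InUniqueMaximal.le_of_le huniq hM2c hQk hLtop hQ.1 hl))]
    obtain ⟨l₁, hl₁, e₁⟩ := hmem g hg
    obtain ⟨l₂, hl₂, e₂⟩ := hmem h hh
    obtain ⟨c₁, hc₁, d₁⟩ := hfix l₁⁻¹ (inv_mem hl₁)
    obtain ⟨c₂, hc₂, d₂⟩ := hfix l₂⁻¹ (inv_mem hl₂)
    have hg' : MulAut.conj g • M = MulAut.conj c₁ • M2 := by
      rw [d₁, ← e₁, conj_smul_conj_smul, inv_mul_cancel_left]
    have hh' : MulAut.conj h • M = MulAut.conj c₂ • M2 := by
      rw [d₂, ← e₂, conj_smul_conj_smul, inv_mul_cancel_left]
    refine ⟨c₂ * c₁⁻¹, mul_mem hc₂ (inv_mem hc₁), ?_⟩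
    rw [hh', ← conj_smul_conj_smul (c₂ * c₁⁻¹), hg', conj_smul_conj_smul, inv_mul_cancel_right]

/-- Elements moving `X` into `M` factor through `M` and `C(X)`. -/
theorem exists_factor (hM : IsCoatom M) (hσ : p ∈ sigma M) {X : Subgroup G} (hXp : IsPGroup p X)
    (hX1 : X ≠ ⊥) (hXM : X ≤ M) {g : G} (hg : MulAut.conj g • X ≤ M) :
    ∃ m ∈ M, ∃ c ∈ centralizer (X : Set G), g = m * c := by
  obtain ⟨c, hc, he⟩ := transOn_of_sigma hG hU h50 hM hσ X hXp hX1 g⁻¹ 1
    (by
      have := conj_smul_mono g⁻¹ hg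
      rwa [conj_smul_conj_smul, inv_mul_cancel, map_one, one_smul] at this)
    (by rwa [map_one, one_smul])
  rw [map_one, one_smul] at he
  refine ⟨(c * g⁻¹)⁻¹, inv_mem (mem_of_conj_smul_eq hG hM he), c, hc, ?_⟩
  rw [mul_inv_rev, inv_inv, inv_mul_cancel_right]

/-- A Sylow subgroup for a prime in `σ(M)` lies in the derived group. -/
theorem sylIn_le_commutator (hM : IsCoatom M) (hσ : p ∈ sigma M) {P : Subgroup G}
    (hP : SylIn p P M) : P ≤ ⁅M, M⁆ := by
  obtain ⟨S, rfl⟩ := (sylIn_top_of_sigma hσ hP).exists_sylow_top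
  have hctl : CfsgLib.Transfer.ControlsFusion M (S : Subgroup G) := by
    intro x hx g hgx
    rcases eq_or_ne x 1 with rfl | hx1
    · exact ⟨1, one_mem _, by group⟩
    obtain ⟨m, hm, c, hc, rfl⟩ := exists_factor hG hU h50 hM hσ (X := zpowers x)
      (S.isPGroup'.to_le (zpowers_le.2 hx)) (zpowers_ne_bot.2 hx1) (zpowers_le.2 (hP.1 hx)) (g := g)
      (conj_smul_le_iff.2 fun y hy => by
        obtain ⟨i, rfl⟩ := mem_zpowers_iff.1 hy
        rw [← conj_zpow]
        exact zpow_mem (hP.1 hgx) i)
    refine ⟨m, hm, ?_⟩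
    have := mem_centralizer_iff.1 hc x (mem_zpowers x)
    rw [show m * c * x * (m * c)⁻¹ = m * (c * x * c⁻¹) * m⁻¹ by group, ← this, mul_inv_cancel_right]
  have h := CfsgLib.Transfer.commutator_inf_sylow_eq S hP.1 hctl
  rw [commutator_eq_top hG, top_inf_eq] at h
  exact h.le.trans inf_le_left

end CfsgLib.OddLocal.Ten
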