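import Cfsg.Agent.Lib.OddLocal.Ten.PLengthTools
import Cfsg.Agent.Lib.OddLocal.Ten.Transitive
import Cfsg.Agent.S1459
import Cfsg.Agent.S1461

/-!
Sylow normalisers in a minimal simple group of odd order all of whose proper subgroups have
`p`-length one: `P = [P, V]`, control of fusion, and the consequences for subgroups of `P`.
-/

set_option autoImplicit false

namespace CfsgLib.OddLocal.Ten

open Cfsg Subgroup CfsgLib.Solvable
open scoped Pointwise commutatorElement

universe u

/-- The structure of a rank two `p`-group with `[R, A] = R` for an odd `p'`-group `A`. -/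
def RankTwoActHyp (G : Type u) [Group G] : Prop :=
  ∀ (p : ℕ) [Fact p.Prime], p ≠ 2 → ∀ (R A : Subgroup G), IsPGroup p R → R ≠ ⊥ → PRankLE p 2 R →
    A ≤ Subgroup.normalizer (R : Set G) → (Nat.card A).Coprime p → Odd (Nat.card A) → ⁅R, A⁆ = R →
    IsMulCommutative R ∨ ∃ R₁ R₂ : Subgroup G, R₁ ⊔ R₂ = R ∧ (∀ a ∈ R₁, ∀ b ∈ R₂, a * b = b * a) ∧
      ¬ IsMulCommutative R₁ ∧ Nat.card R₁ = p ^ 3 ∧ Monoid.exponent R₁ = p ∧ IsCyclic R₂ ∧
      Subgroup.closure {x : G | x ∈ R₂ ∧ x ^ p = 1} = ⁅R₁, R₁⁆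

/-- In a nonabelian group of order `p ^ 3` the centre is the derived subgroup. -/
theorem center_eq_commutator_of_card_cube {R : Type u} [Group R] [Finite R] {p : ℕ} [hp : Fact p.Prime]
    (hc : Nat.card R = p ^ 3) (hna : ¬ IsMulCommutative R) : center R = commutator R := by
  have hR : IsPGroup p R := IsPGroup.of_card hc
  have : Nontrivial R := Finite.one_lt_card_iff_nontrivial.1 (hc ▸ Nat.one_lt_pow (by norm_num) hp.out.one_lt)
  have hnt := hR.center_nontrivial
  obtain ⟨k, hk3, hk⟩ := (Nat.dvd_prime_pow hp.out).1 (hc ▸ card_subgroup_dvd_card (center R))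
  have hk0 : k ≠ 0 := fun h => (Finite.one_lt_card_iff_nontrivial.2 hnt).ne' (by rw [hk, h, pow_zero])
  have hidx : (center R).index = p ^ (3 - k) := by
    refine Nat.eq_of_mul_eq_mul_left (pow_pos hp.out.pos k) ?_
    rw [← pow_add, Nat.add_sub_cancel' hk3, ← hk, card_mul_index, hc]
  have hncyc : ¬ IsCyclic (R ⧸ center R) := fun hcy => hna ⟨⟨fun a b => by
    exact (MonoidHom.isMulCommutative_of_isCyclic_of_ker_le_center (QuotientGroup.mk' (center R))
      (by rw [QuotientGroup.ker_mk'])).is_comm.comm a b⟩⟩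
  have hk1 : k = 1 := by
    by_contra h
    have : 3 - k = 0 ∨ 3 - k = 1 := by omega
    rcases this with e | e <;> rw [e] at hidx
    · have : Subsingleton (R ⧸ center R) := (Nat.card_eq_one_iff_unique.1 (by
        rw [← index_eq_card, hidx, pow_zero])).1
      exact hncyc ⟨1, fun x => ⟨0, Subsingleton.elim _ _⟩⟩
    · exact hncyc (isCyclic_of_prime_card (p := p) (by rw [← index_eq_card, hidx, pow_one]))
  subst hk1
  have hq : Nat.card (R ⧸ center R) = p ^ 2 := by rw [← index_eq_card, hidx]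
  have hcomm := (IsPGroup.isMulCommutative_of_card_eq_prime_sq hq).is_comm.comm
  have hle : _root_.commutator R ≤ center R := by
    rw [_root_.commutator_def, commutator_le]
    intro a _ b _
    refine (QuotientGroup.eq_one_iff _).1 ?_
    show QuotientGroup.mk' (center R) ⁅a, b⁆ = 1
    rw [map_commutatorElement]
    exact commutatorElement_eq_one_iff_mul_comm.2 (hcomm _ _)
  refine (eq_of_le_of_card_ge hle ?_).symm
  rcases (Nat.dvd_prime hp.out).1 (show Nat.card (commutator R) ∣ p by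
    rw [← pow_one p, ← hk]; exact card_dvd_of_le hle) with h | h
  · refine absurd ⟨⟨fun a b => commutatorElement_eq_one_iff_mul_comm.1 ?_⟩⟩ hna
    rw [← mem_bot, ← eq_bot_of_card_eq _ h, _root_.commutator_def]
    exact commutator_mem_commutator (mem_top a) (mem_top b)
  · rw [h, hk, pow_one]

theorem inf_centralizer_eq_commutator {G : Type u} [Group G] [Finite G] {p : ℕ} [Fact p.Prime]
    (R : Subgroup G) (hc : Nat.card R = p ^ 3) (hna : ¬ IsMulCommutative R) :
    R ⊓ centralizer (R : Set G) = ⁅R, R⁆ := by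
  rw [← map_subtype_commutator, ← center_eq_commutator_of_card_cube hc hna]
  ext x
  constructor
  · rintro ⟨hx, hxc⟩
    exact ⟨⟨x, hx⟩, mem_center_iff.2 fun y => Subtype.ext (mem_centralizer_iff.1 hxc y y.2), rfl⟩
  · rintro ⟨y, hy, rfl⟩
    exact ⟨y.2, mem_centralizer_iff.2 fun z hz => congrArg Subtype.val (mem_center_iff.1 hy ⟨z, hz⟩)⟩

variable {G : Type u} [Group G] [Finite G]
  (hG : IsMinSimpleOddOrder G) (hU : UniqHyp G) (h50 : RankTwoHyp.{u})
  (hpl : ∀ (p : ℕ) [Fact p.Prime] (H : Subgroup G), H ≠ ⊤ → PLengthLE p 1 H)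
  {p : ℕ} [hp : Fact p.Prime] (P : Sylow p G)

include hG in
/-- A maximal subgroup containing the normalizer of a non-trivial Sylow subgroup. -/
theorem exists_coatom_sigma (hP : (P : Subgroup G) ≠ ⊥) :
    ∃ M : Subgroup G, IsCoatom M ∧ normalizer ((P : Subgroup G) : Set G) ≤ M ∧ p ∈ sigma M := by
  obtain ⟨M, hM, hle⟩ := exists_coatom_ge
    (normalizer_ne_top hG hP (pGroup_ne_top hG P.isPGroup'))
  refine ⟨M, hM, hle, mem_sigma_of_sylow (sylIn_top P) ?_ hle⟩
  obtain ⟨n, hn⟩ := P.isPGroup'.exists_card_eq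
  rcases n with _ | n
  · exact absurd (Subgroup.card_eq_one.1 (by simpa using hn)) hP
  · exact (dvd_pow_self p n.succ_ne_zero).trans (hn ▸ card_subgroup_dvd_card _)

include hG hU h50 hpl in
/-- `P = [P, V]` and `P ≤ N(P)'`. -/
theorem sylow_eq_commutator (V : Subgroup G)
    (hV : IsComplIn (P : Subgroup G) V (normalizer ((P : Subgroup G) : Set G))) :
    (P : Subgroup G) = ⁅(P : Subgroup G), V⁆ ∧
      (P : Subgroup G) ≤ ⁅normalizer ((P : Subgroup G) : Set G), normalizer ((P : Subgroup G) : Set G)⁆ := by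
  rcases eq_or_ne (P : Subgroup G) ⊥ with e | e
  · rw [e]
    exact ⟨(commutator_bot_left V).symm, bot_le⟩
  obtain ⟨M, hM, hle, hσ⟩ := exists_coatom_sigma hG P e
  have hPM : (P : Subgroup G) ≤ M := le_normalizer.trans hle
  have hsyl : SylIn p (P : Subgroup G) M := (sylIn_top P).of_le hPM le_top
  have hsolv : Group.IsSolvable M := isSolvable_of_ne_top hG hM.1
  set N := normalizer ((P : Subgroup G) : Set G) with hN
  obtain ⟨hPV, hVN, hinf, hmul⟩ := hV
  have hPN : (P : Subgroup G) ≤ ⁅N, N⁆ := by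
    obtain ⟨S, hS⟩ := hsyl.exists_sylow
    have h1 := (Cfsg.Agent.S1461.result p (hpl p M hM.1) S).1 (fun x hx => by
      obtain ⟨y, hy, e'⟩ : (x : G) ∈ (commutator ↥M).map M.subtype := by
        rw [map_subtype_commutator]
        exact sylIn_le_commutator hG hU h50 hM hσ hsyl (hS ▸ mem_map_of_mem M.subtype hx)
      exact M.subtype_injective e' ▸ hy)
    calc (P : Subgroup G) = (S : Subgroup M).map M.subtype := hS.symm
      _ ≤ _ := map_mono h1
      _ ≤ ⁅N, N⁆ := by
        rw [map_commutator]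
        have h2 : (normalizer ((S : Subgroup M) : Set M)).map M.subtype ≤ N := by
          rw [hN, ← hS]; exact le_normalizer_map _
        exact commutator_mono h2 h2
  refine ⟨le_antisymm ?_ ?_, hPN⟩
  · have : Group.IsSolvable N := isSolvable_of_ne_top hG
      (normalizer_ne_top hG e (pGroup_ne_top hG P.isPGroup'))
    set H := (P : Subgroup G).subgroupOf N with hH
    have hHn : H.Normal := (normal_subgroupOf_iff_le_normalizer le_normalizer).2 le_rfl
    have hHc : H ≤ commutator ↥N := by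
      intro x hx
      obtain ⟨y, hy, e'⟩ : (x : G) ∈ (commutator ↥N).map N.subtype := by
        rw [map_subtype_commutator]; exact hPN hx
      exact N.subtype_injective e' ▸ hy
    have hcop : (Nat.card H).Coprime H.index := by
      rw [hH, Nat.card_congr (subgroupOfEquivOfLe le_normalizer).toEquiv]
      obtain ⟨n, hn⟩ := P.isPGroup'.exists_card_eq
      rw [hn]
      exact Nat.Coprime.pow_left n (hp.out.coprime_iff_not_dvd.2 ((sylIn_top P).of_le le_normalizer le_top).2.2)
    have hcompl : IsComplement' H (V.subgroupOf N) := by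
      refine isComplement'_of_disjoint_and_mul_eq_univ ?_ ?_
      · rw [disjoint_iff, eq_bot_iff]
        rintro x ⟨hx1, hx2⟩
        exact mem_bot.2 (Subtype.ext (mem_bot.1 (hinf ▸ (⟨hx1, hx2⟩ : (x : G) ∈ (P : Subgroup G) ⊓ V))))
      · refine Set.eq_univ_of_forall fun x => ?_
        obtain ⟨a, ha, b, hb, e'⟩ := hmul x x.2
        exact ⟨⟨a, le_normalizer ha⟩, ha, ⟨b, hVN hb⟩, hb, Subtype.ext e'.symm⟩
    have h1 := ((Cfsg.Agent.S1459.result (G := ↥N)).1 H _ hHn hcop hcompl hHc).1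
    have h2 := congrArg (Subgroup.map N.subtype) h1
    rw [map_commutator, hH, subgroupOf_map_subtype, subgroupOf_map_subtype, inf_eq_left.2 le_normalizer,
      inf_eq_left.2 hVN] at h2
    exact h2.le
  · rw [commutator_le]
    intro a ha v hv
    rw [commutatorElement_def, mul_assoc a, mul_assoc a]
    refine mul_mem ha ?_
    have := (mem_normalizer_iff.1 (hVN hv) a⁻¹).1 (inv_mem ha)
    simpa [mul_assoc] using this

include hG hU h50 hpl in
/-- Rank two Sylow subgroups. -/
theorem sylow_rank_two (h48 : RankTwoActHyp G) (hr : PRankLE p 2 (P : Subgroup G)) :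
    IsMulCommutative (P : Subgroup G) ∨ ∃ P₁ P₂ : Subgroup G, P₁ ⊔ P₂ = (P : Subgroup G) ∧
      (∀ a ∈ P₁, ∀ b ∈ P₂, a * b = b * a) ∧
      ¬ IsMulCommutative P₁ ∧ Nat.card P₁ = p ^ 3 ∧ Monoid.exponent P₁ = p ∧ IsCyclic P₂ ∧
      Subgroup.closure {x : G | x ∈ P₂ ∧ x ^ p = 1} = P₁ ⊓ Subgroup.centralizer (P₁ : Set G) := by
  rcases eq_or_ne (P : Subgroup G) ⊥ with e | e
  · left
    refine ⟨⟨fun a b => Subtype.ext ?_⟩⟩
    simp only [Subgroup.coe_mul, show ((a : G)) = 1 from mem_bot.1 (e ▸ a.2),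
      show ((b : G)) = 1 from mem_bot.1 (e ▸ b.2)]
  set N := normalizer ((P : Subgroup G) : Set G) with hN
  have hHn : ((P : Subgroup G).subgroupOf N).Normal :=
    (normal_subgroupOf_iff_le_normalizer le_normalizer).2 le_rfl
  have hsylN := (sylIn_top P).of_le le_normalizer (le_top (a := N))
  obtain ⟨n, hn⟩ := P.isPGroup'.exists_card_eq
  have hcop : (Nat.card ((P : Subgroup G).subgroupOf N)).Coprime ((P : Subgroup G).subgroupOf N).index := by
    rw [Nat.card_congr (subgroupOfEquivOfLe le_normalizer).toEquiv, hn]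
    exact Nat.Coprime.pow_left n (hp.out.coprime_iff_not_dvd.2 hsylN.2.2)
  obtain ⟨V, hV⟩ := exists_right_complement'_of_coprime hcop
  have hVc : (Nat.card V).Coprime p := by
    rw [← hV.symm.index_eq_card]
    exact (hp.out.coprime_iff_not_dvd.2 hsylN.2.2).symm
  have hVC : IsComplIn (P : Subgroup G) (V.map N.subtype) N := by
    refine ⟨le_normalizer, map_subtype_le _, ?_, fun m hm => ?_⟩
    · rw [eq_bot_iff]
      rintro x ⟨hx, y, hy, rfl⟩
      exact mem_bot.2 (congrArg Subtype.val (mem_bot.1 (hV.disjoint.le_bot (show y ∈ _ ⊓ V from ⟨hx, hy⟩))))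
    · obtain ⟨⟨⟨a, ha⟩, ⟨b, hb⟩⟩, e', -⟩ := isComplement'_def.1 hV |>.existsUnique ⟨m, hm⟩
      exact ⟨a, ha, b, mem_map_of_mem _ hb, congrArg Subtype.val e'.symm⟩
  have hPV := (sylow_eq_commutator hG hU h50 hpl P _ hVC).1
  have hdP : p ∣ Nat.card (P : Subgroup G) := by
    rcases n with _ | n
    · exact absurd (Subgroup.card_eq_one.1 (by simpa using hn)) e
    · exact hn ▸ dvd_pow_self p n.succ_ne_zero
  rcases h48 p (ne_two_of_dvd hG hdP) (P : Subgroup G) _ P.isPGroup' e hr (map_subtype_le _)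
    (by rw [card_map_of_injective N.subtype_injective]; exact hVc) (odd_card_subgroup hG _) hPV.symm with
    h | ⟨R₁, R₂, h1, h2, h3, h4, h5, h6, h7⟩
  · exact Or.inl h
  · exact Or.inr ⟨R₁, R₂, h1, h2, h3, h4, h5, h6, by rw [inf_centralizer_eq_commutator R₁ h4 h3, h7]⟩

include hG hU h50 hpl in
/-- `N(P)` controls fusion of subsets of `P`. -/
theorem exists_normalizer_conj {Q : Subgroup G} (hQP : Q ≤ P) {x : G}
    (hx : ∀ q ∈ Q, x * q * x⁻¹ ∈ (P : Subgroup G)) :
    ∃ y ∈ normalizer ((P : Subgroup G) : Set G), ∀ q ∈ Q, x * q * x⁻¹ = y * q * y⁻¹ := by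
  rcases eq_or_ne Q ⊥ with rfl | hQ1
  · exact ⟨1, one_mem _, fun q hq => by rw [mem_bot.1 hq]; simp⟩
  have hP1 : (P : Subgroup G) ≠ ⊥ := fun e => hQ1 (le_bot_iff.1 (hQP.trans e.le))
  obtain ⟨M, hM, hle, hσ⟩ := exists_coatom_sigma hG P hP1
  have hPM : (P : Subgroup G) ≤ M := le_normalizer.trans hle
  obtain ⟨m, hm, c, hc, rfl⟩ := exists_factor hG hU h50 hM hσ (P.isPGroup'.to_le hQP) hQ1
    (hQP.trans hPM) (g := x) (conj_smul_le_iff.2 fun q hq => hPM (hx q hq))
  have hcq : ∀ q ∈ Q, m * c * q * (m * c)⁻¹ = m * q * m⁻¹ := fun q hq => by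
    rw [show m * c * q * (m * c)⁻¹ = m * (c * q * c⁻¹) * m⁻¹ by group,
      ← mem_centralizer_iff.1 hc q hq, mul_inv_cancel_right]
  have hsolv : Group.IsSolvable M := isSolvable_of_ne_top hG hM.1
  obtain ⟨S, hS⟩ := ((sylIn_top P).of_le hPM le_top).exists_sylow
  have hmemS : ∀ {w : ↥M}, (w : G) ∈ (P : Subgroup G) → w ∈ (S : Subgroup M) := fun {w} hw => by
    obtain ⟨v, hv, e⟩ := hS.symm.le hw
    exact M.subtype_injective e ▸ hv
  obtain ⟨g, hg, c', hc', e⟩ := (Cfsg.Agent.S1461.result p (hpl p M hM.1) S).2.1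
    (Q.subgroupOf M : Set ↥M) ⟨m, hm⟩ (fun w hw => hmemS (hQP hw)) (by
      rintro _ ⟨w, hw, rfl⟩
      refine hmemS ?_
      show m * (w : G) * m⁻¹ ∈ (P : Subgroup G)
      rw [← hcq (w : G) hw]
      exact hx _ hw)
  refine ⟨g, ?_, fun q hq => ?_⟩
  · rw [← hS]; exact le_normalizer_map M.subtype (mem_map_of_mem _ hg)
  · rw [hcq q hq]
    have e1 := congrArg Subtype.val (mem_centralizer_iff.1 hc' ⟨q, hPM (hQP hq)⟩ hq)
    have e2 : (g : G) * (c' : G) = m := congrArg Subtype.val e
    rw [← e2, show (g : G) * c' * q * ((g : G) * c')⁻¹ = g * ((c' : G) * q * (c' : G)⁻¹) * (g : G)⁻¹ by group]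
    simp only [Subgroup.coe_mul] at e1
    rw [← e1, mul_inv_cancel_right]

include hG hU h50 hpl in
/-- The consequences for normalisers of subgroups of `P`. -/
theorem sylow_subgroup_normalizers :
    (∀ (Q : Subgroup G) (x : G), Q ≤ (P : Subgroup G) → Q.map (MulAut.conj x).toMonoidHom ≤ (P : Subgroup G) →
        ∃ y ∈ normalizer ((P : Subgroup G) : Set G),
          Q.map (MulAut.conj x).toMonoidHom = Q.map (MulAut.conj y).toMonoidHom) ∧
      (∀ Q : Subgroup G, Q ≤ (P : Subgroup G) →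
        ¬ p ∣ ((P : Subgroup G) ⊓ normalizer (Q : Set G)).relIndex (normalizer (Q : Set G))) ∧
      (∀ (R Q : Subgroup G), IsPGroup p R → Q ≤ (P : Subgroup G) ⊓ R →
        normalizer ((P : Subgroup G) : Set G) ≤ normalizer (Q : Set G) →
        normalizer (R : Set G) ≤ normalizer (Q : Set G)) := by
  have hc : ∀ (Q : Subgroup G) (x : G), Q ≤ (P : Subgroup G) → MulAut.conj x • Q ≤ (P : Subgroup G) →
      ∃ y ∈ normalizer ((P : Subgroup G) : Set G), MulAut.conj x • Q = MulAut.conj y • Q := by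
    intro Q x hQ hx
    obtain ⟨y, hy, he⟩ := exists_normalizer_conj hG hU h50 hpl P hQ (x := x) (conj_smul_le_iff.1 hx)
    refine ⟨y, hy, le_antisymm (conj_smul_le_iff.2 fun q hq => ?_) (conj_smul_le_iff.2 fun q hq => ?_)⟩
    · rw [he q hq]; exact conj_smul_le_iff.1 le_rfl q hq
    · rw [← he q hq]; exact conj_smul_le_iff.1 le_rfl q hq
  refine ⟨hc, fun Q hQ => ?_, fun R Q hR hQR hN n hn => ?_⟩
  · set L := normalizer (Q : Set G) with hL
    obtain ⟨T, hT, hle⟩ := exists_sylIn_ge (P.isPGroup'.to_le (inf_le_left (b := L))) inf_le_right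
    suffices e : (P : Subgroup G) ⊓ L = T by rw [e]; exact hT.2.2
    have hQT : Q ≤ T := (le_inf hQ le_normalizer).trans hle
    obtain ⟨x, -, hx⟩ := (sylIn_top P).exists_conj_le hT.2.1 le_top
    obtain ⟨y, hy, he⟩ := hc Q x hQ ((conj_smul_mono x hQT).trans hx)
    have hn : y⁻¹ * x ∈ L := mem_normalizer_iff_conj_smul.2 (by
      rw [← conj_smul_conj_smul, he, conj_smul_conj_smul, inv_mul_cancel, map_one, one_smul])
    refine eq_of_le_of_card_ge hle ?_
    rw [← card_conj_smul (y⁻¹ * x) T]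
    refine card_le_of_le (le_inf ?_ ?_)
    · rw [← conj_smul_conj_smul]
      exact (conj_smul_mono _ hx).trans (conj_smul_self_of_mem_normalizer (inv_mem hy)).le
    · exact (conj_smul_mono _ hT.1).trans (conj_smul_self_of_mem_normalizer (le_normalizer hn)).le
  · obtain ⟨x, -, hx⟩ := (sylIn_top P).exists_conj_le hR le_top
    have key : ∀ z : G, MulAut.conj z • Q ≤ (P : Subgroup G) → z ∈ normalizer (Q : Set G) := by
      intro z hz
      obtain ⟨y, hy, he⟩ := hc Q z (hQR.trans inf_le_left) hz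
      exact mem_normalizer_iff_conj_smul.2 (he.trans (conj_smul_self_of_mem_normalizer (hN hy)))
    have h1 := key x ((conj_smul_mono x (hQR.trans inf_le_right)).trans hx)
    have h2 := key (x * n) (by
      refine (conj_smul_mono _ (hQR.trans inf_le_right)).trans ?_
      rw [← conj_smul_conj_smul, conj_smul_self_of_mem_normalizer hn]
      exact hx)
    have := mul_mem (inv_mem h1) h2
    rwa [inv_mul_cancel_left] at this

end CfsgLib.OddLocal.Ten
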