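import Cfsg.Agent.Lib.OddLocal.Ten.Basic
import Cfsg.Agent.Lib.Solvable.UniqueSubgroup
import Mathlib.GroupTheory.SpecificGroups.ZGroup

/-!
Rank one: `p`-groups of rank one are cyclic for odd `p`.
-/

set_option autoImplicit false

namespace CfsgLib.OddLocal.Ten

open Cfsg Subgroup

variable {G : Type*} [Group G] [Finite G] {p : ℕ} [hp : Fact p.Prime]

omit hp in
/-- Two commuting elements of order `p` generate the same subgroup if the rank is one. -/
theorem zpowers_eq_of_rankOne (hr : PRankLE p 1 G) {x z : G} (hc : x * z = z * x)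
    (hx : orderOf x = p) (hz : orderOf z = p) : zpowers x = zpowers z := by
  have hA : IsElementaryAbelian p (zpowers x ⊔ zpowers z) := CfsgLib.PGroup.elemAb_sup
    (CfsgLib.PGroup.elemAb_zpowers (hx ▸ pow_orderOf_eq_one x))
    (CfsgLib.PGroup.elemAb_zpowers (hz ▸ pow_orderOf_eq_one z))
    (fun a ha b hb => by
      obtain ⟨i, rfl⟩ := mem_zpowers_iff.1 ha
      obtain ⟨j, rfl⟩ := mem_zpowers_iff.1 hb
      exact (Commute.zpow_zpow hc i j).eq)
  have hcard := (CfsgLib.PGroup.pRankLE_iff.1 hr _ hA)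
  rw [pow_one] at hcard
  have h1 : zpowers x = zpowers x ⊔ zpowers z :=
    eq_of_le_of_card_ge le_sup_left (by rw [Nat.card_zpowers, hx]; exact hcard)
  have h2 : zpowers z = zpowers x ⊔ zpowers z :=
    eq_of_le_of_card_ge le_sup_right (by rw [Nat.card_zpowers, hz]; exact hcard)
  exact h1.trans h2.symm

theorem isCyclic_of_pRankLE_one (hG : IsPGroup p G) (hp2 : p ≠ 2) (hr : PRankLE p 1 G) :
    IsCyclic G := by
  rcases subsingleton_or_nontrivial G with h | h
  · exact ⟨1, fun x => ⟨0, Subsingleton.elim _ _⟩⟩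
  · have := hG.center_nontrivial
    obtain ⟨z, hz, hzo⟩ := CfsgLib.PGroup.exists_orderOf_eq hG
      (H := center G) ((center G).nontrivial_iff_ne_bot.1 this)
    refine (CfsgLib.Solvable.isCyclic_or_quaternion hG fun x y hx hy => ?_).resolve_right fun h => hp2 h.1
    rw [zpowers_eq_of_rankOne hr (mem_center_iff.1 hz y) hy hzo,
      ← zpowers_eq_of_rankOne hr (mem_center_iff.1 hz x) hx hzo]
    exact mem_zpowers x

theorem isZGroup_of_rankLE_one (hodd : Odd (Nat.card G)) (h : RankLE 1 G) : IsZGroup G := by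
  refine ⟨fun q hq S => ?_⟩
  have : Fact q.Prime := ⟨hq⟩
  rcases eq_or_ne (S : Subgroup G) ⊥ with e | e
  · rw [e]; infer_instance
  · refine isCyclic_of_pRankLE_one S.isPGroup' (fun h2 => ?_) (CfsgLib.PGroup.pRankLE_subgroup (h q hq) _)
    obtain ⟨n, hn⟩ := S.isPGroup'.exists_card_eq
    rcases n with _ | n
    · exact e (Subgroup.card_eq_one.1 (by simpa using hn))
    · refine Nat.not_even_iff_odd.2 hodd (even_iff_two_dvd.2 ?_)
      exact h2 ▸ (dvd_pow_self q n.succ_ne_zero).trans (hn ▸ card_subgroup_dvd_card (S : Subgroup G))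

end CfsgLib.OddLocal.Ten
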