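import Cfsg.Agent.Lib.OddLocal.Ten.Bundle
import Cfsg.Agent.Lib.OddLocal.Uniqueness
import Cfsg.Agent.S1444
import Cfsg.Agent.S1448
import Cfsg.Agent.S1450
import Cfsg.Agent.S1451
import Cfsg.Agent.S1455

/-!
The hypotheses of the section on maximal subgroups, discharged.
-/

set_option autoImplicit false

namespace CfsgLib.OddLocal.Ten

open Cfsg

universe u

theorem uniqHyp {G : Type u} [Group G] [Finite G] (hG : IsMinSimpleOddOrder G) : UniqHyp G :=
  fun K h1 h2 h3 => CfsgLib.OddLocal.uniqueness hG K h1 h2 h3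

theorem rankTwoHyp : RankTwoHyp.{u} := fun _ _ _ _ hodd p _ hpL hr =>
  ⟨(Cfsg.Agent.S1450.result hodd p hpL hr).1, (Cfsg.Agent.S1450.result hodd p hpL hr).2.2.1,
    (Cfsg.Agent.S1450.result hodd p hpL hr).2.2.2.2.2⟩

theorem derivedNilHyp : DerivedNilHyp.{u} := fun _ _ _ _ hodd hr =>
  (Cfsg.Agent.S1451.result hodd (Or.inr hr)).1

theorem commPLengthHyp : CommPLengthHyp.{u} := fun _ _ _ _ hodd H R R₀ _ h1 h2 h3 h4 h5 p _ =>
  Cfsg.Agent.S1444.result hodd H R R₀ h1 h2 h3 h4 h5 p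

theorem rankTwoActHyp (G : Type u) [Group G] [Finite G] : RankTwoActHyp G :=
  fun p _ hp R A h1 h2 h3 h4 h5 h6 h7 => (Cfsg.Agent.S1448.result p hp R A h1 h2 h3 h4 h5 h6 h7).2

theorem narrowHyp : NarrowHyp.{u} := fun _ _ _ _ hodd p _ hpL S hS hpl =>
  ⟨(Cfsg.Agent.S1455.result hodd p hpL S hS hpl).1, (Cfsg.Agent.S1455.result hodd p hpL S hS hpl).2.2.1⟩

/-- All results of the section, in one bundle. -/
theorem ten_of_minimal {G : Type u} [Group G] [Finite G] (hG : IsMinSimpleOddOrder G) :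
    CfsgLib.OddLocal.BG.Ten G :=
  ten hG (uniqHyp hG) rankTwoHyp derivedNilHyp commPLengthHyp (rankTwoActHyp G) narrowHyp

end CfsgLib.OddLocal.Ten
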