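import Cfsg.Agent.Lib.OddLocal.Ten.RankOne
import Cfsg.Agent.Lib.Cores.RankGraph
import Cfsg.Agent.Lib.PGroup.Extraspecial

/-!
A `p`-group of rank at least three with a maximal elementary abelian subgroup of order `p ^ 2` is narrow.
-/

set_option autoImplicit false

namespace CfsgLib.OddLocal.Ten

open Cfsg Subgroup CfsgLib.PGroup
open scoped commutatorElement

variable {R : Type*} [Group R] [Finite R] {p : ℕ} [hp : Fact p.Prime]

/-- An elementary abelian group of order `p ^ 2` is generated by a subgroup of order `p` and any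
element outside it. -/
theorem sup_zpowers_eq_of_sq {A Z : Subgroup R} (hA : IsElementaryAbelian p A) (hAc : Nat.card A = p ^ 2)
    (hZA : Z ≤ A) (hZc : Nat.card Z = p) {a : R} (ha : a ∈ A) (haZ : a ∉ Z) : Z ⊔ zpowers a = A := by
  refine eq_of_le_of_card_ge (sup_le hZA (zpowers_le.2 ha)) ?_
  obtain ⟨n, hn⟩ := (elemAb_isPGroup (elemAb_mono hA (sup_le hZA (zpowers_le.2 ha)))).exists_card_eq
  rw [hAc, hn]
  refine Nat.pow_le_pow_right hp.out.pos ((Nat.pow_lt_pow_iff_right hp.out.one_lt).1 ?_)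
  rw [← hn, pow_one, ← hZc]
  exact lt_of_le_of_ne (card_le_of_le le_sup_left)
    fun e => haZ (eq_of_le_of_card_ge le_sup_left e.ge ▸ mem_sup_right (mem_zpowers a))

theorem isNarrow_of_maximal_sq (hR : IsPGroup p R) (hp2 : p ≠ 2) (hrk : ¬ PRankLE p 2 R)
    {A : Subgroup R} (hA : IsElementaryAbelian p A) (hAc : Nat.card A = p ^ 2)
    (hmax : ∀ B : Subgroup R, IsElementaryAbelian p B → A ≤ B → B = A) : IsNarrow p R := by
  -- elements of order `p` centralising `A` lie in `A`
  have hCA : ∀ v : R, v ^ p = 1 → A ≤ centralizer ({v} : Set R) → v ∈ A := fun v hv hc => by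
    have h := hmax _ (elemAb_sup hA (elemAb_zpowers hv) fun a ha b hb => by
      obtain ⟨i, rfl⟩ := mem_zpowers_iff.1 hb
      exact (Commute.zpow_right (mem_centralizer_singleton_iff.1 (hc ha)) i).eq) le_sup_left
    exact h ▸ mem_sup_right (mem_zpowers v)
  have hcen : ∀ z ∈ center R, ∀ v : R, z ∈ centralizer ({v} : Set R) := fun z hz v =>
    mem_centralizer_singleton_iff.2 (mem_center_iff.1 hz v).symm
  obtain ⟨U, hUn, hU, hUc⟩ := CfsgLib.RankGraph.exists_normal_sq hR hrk
  have hlt : p < p ^ 2 := lt_self_pow₀ hp.out.one_lt (by norm_num)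
  have hU1 : U ≠ ⊥ := fun e => by
    rw [e, card_bot] at hUc
    exact (Nat.one_lt_pow (by norm_num) hp.out.one_lt).ne hUc
  obtain ⟨Z, hZc, hZU, hZZ⟩ : ∃ Z : Subgroup R, Nat.card Z = p ∧ Z ≤ U ∧ Z ≤ center R := by
    obtain ⟨z, hz, hzo⟩ := exists_orderOf_eq hR (H := U ⊓ center R) (inf_center_ne_bot hR U hU1)
    exact ⟨zpowers z, by rw [Nat.card_zpowers, hzo], zpowers_le.2 hz.1, zpowers_le.2 hz.2⟩
  have hZA : Z ≤ A := fun z hz => hCA z (hU.2 z (hZU hz)) fun a _ =>
    mem_centralizer_singleton_iff.2 (mem_center_iff.1 (hZZ hz) a)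
  have hcommU : ∀ k : R, ∀ u ∈ U, ⁅k, u⁆ ∈ Z := fun k u hu => by
    have hZn : Z.Normal := ⟨fun z hz g => by
      rwa [mem_center_iff.1 (hZZ hz) g, mul_inv_cancel_right]⟩
    have : (U.map (QuotientGroup.mk' Z)).Normal := hUn.map _ (QuotientGroup.mk'_surjective Z)
    have hquot := le_center_of_card_eq (p := p) (hR.to_quotient Z) (U.map (QuotientGroup.mk' Z)) (by
      have h1 := relIndex_ker (QuotientGroup.mk' Z) (K := U)
      rw [QuotientGroup.ker_mk'] at h1
      rw [← h1]
      refine Nat.eq_of_mul_eq_mul_left hp.out.pos ?_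
      rw [← pow_two, ← hUc]
      conv_lhs => rw [← hZc]
      rw [← relIndex_bot_left, ← relIndex_bot_left, relIndex_mul_relIndex ⊥ Z U bot_le hZU])
    rw [← QuotientGroup.eq_one_iff, ← QuotientGroup.mk'_apply, map_commutatorElement]
    exact commutatorElement_eq_one_iff_mul_comm.2 (mem_center_iff.1 (hquot (mem_map_of_mem _ hu)) _)
  -- `A` is not normal
  have hAU : A ≠ U := by
    intro e
    obtain ⟨B, hB, hBc⟩ := CfsgLib.Cores.not_pRankLE_two_iff.1 hrk
    obtain ⟨a, haA, haZ⟩ : ∃ a ∈ A, a ∉ Z := by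
      by_contra h
      push Not at h
      have := card_le_of_le (show A ≤ Z from h)
      rw [hAc, hZc] at this
      exact hlt.not_ge this
    have hgen := sup_zpowers_eq_of_sq hA hAc hZA hZc haA haZ
    have hle : B ⊓ centralizer ({a} : Set R) ≤ A := fun b hb => hCA b (hB.2 b hb.1) (hgen ▸
      sup_le (fun z hz => hcen z (hZZ hz) b)
        (zpowers_le.2 (mem_centralizer_singleton_iff.2 (mem_centralizer_singleton_iff.1 hb.2).symm)))
    have h23 : p ^ 2 < p ^ 3 := Nat.pow_lt_pow_right hp.out.one_lt (by norm_num)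
    by_cases hBa : B ≤ centralizer ({a} : Set R)
    · have := hBc.trans (card_le_of_le ((le_inf le_rfl hBa).trans hle))
      rw [hAc] at this
      exact h23.not_ge this
    · have h1 := card_inf_centralizer_mul hZZ hZc (K := B) (x := a)
        (fun k _ => hcommU k a (e ▸ haA)) hBa
      have h2 : B ⊓ centralizer ({a} : Set R) = A := by
        refine eq_of_le_of_card_ge hle (Nat.le_of_mul_le_mul_right ?_ hp.out.pos)
        rw [h1, hAc, ← pow_succ]
        exact hBc
      have := hmax B hB (h2 ▸ inf_le_left)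
      rw [this, hAc] at hBc
      exact h23.not_ge hBc
  obtain ⟨a, haA, haU⟩ : ∃ a ∈ A, a ∉ U := by
    by_contra h
    push Not at h
    exact hAU (eq_of_le_of_card_ge h (by rw [hAc, hUc]))
  have hao : orderOf a = p := orderOf_eq_prime (hA.2 a haA) fun e => haU (e ▸ one_mem U)
  obtain ⟨u, huU, huZ⟩ : ∃ u ∈ U, u ∉ Z := by
    by_contra h
    push Not at h
    have := card_le_of_le (show U ≤ Z from h)
    rw [hUc, hZc] at this
    exact hlt.not_ge this
  -- `A` does not centralise `u`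
  have hAu : ¬ A ≤ centralizer ({u} : Set R) := fun h => by
    have huA := hCA u (hU.2 u huU) h
    exact haU ((sup_zpowers_eq_of_sq hA hAc hZA hZc huA huZ).ge.trans
      (sup_le hZU (zpowers_le.2 huU)) haA)
  have hgen := sup_zpowers_eq_of_sq hA hAc hZA hZc haA fun h => haU (hZU h)
  set C := centralizer (zpowers a : Set R) with hC
  have haC : zpowers a ≤ C := fun x hx => mem_centralizer_iff.2 fun y hy => by
    obtain ⟨i, rfl⟩ := mem_zpowers_iff.1 hx
    obtain ⟨j, rfl⟩ := mem_zpowers_iff.1 hy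
    exact (Commute.zpow_zpow rfl j i).eq
  have hua : ¬ C ≤ centralizer ({u} : Set R) := fun h => hAu (hgen ▸
    sup_le (fun z hz => hcen z (hZZ hz) u) (haC.trans h))
  set K := C ⊓ centralizer ({u} : Set R) with hK
  have hKC : Nat.card K * p = Nat.card C :=
    card_inf_centralizer_mul hZZ hZc (fun k _ => hcommU k u huU) hua
  have hKA : ∀ k ∈ K, k ^ p = 1 → k ∈ Z := by
    intro k hk hkp
    have hkA : k ∈ A := hCA k hkp (hgen ▸ sup_le (fun z hz => hcen z (hZZ hz) k)
      (zpowers_le.2 (mem_centralizer_singleton_iff.2 (mem_centralizer_iff.1 hk.1 a (mem_zpowers a)))))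
    by_contra hkZ
    exact hAu (sup_zpowers_eq_of_sq hA hAc hZA hZc hkA hkZ ▸
      sup_le (fun z hz => hcen z (hZZ hz) u) (zpowers_le.2 hk.2))
  have hKcyc : IsCyclic K := by
    refine isCyclic_of_pRankLE_one (hR.to_subgroup K) hp2 ((pRankLE_subgroup_iff K).2 fun B hBK hB => ?_)
    rw [pow_one, ← hZc]
    exact card_le_of_le fun b hb => hKA b (hBK hb) (hB.2 b hb)
  refine Or.inr ⟨zpowers a, K, by rw [Nat.card_zpowers, hao], hKcyc, ?_, ?_, ?_⟩
  · rw [eq_bot_iff]
    rintro x ⟨hx, hxK⟩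
    by_contra hx1
    have hxZ : x ∈ Z := hKA x hxK (hA.2 x ((zpowers_le.2 haA) hx))
    have h2 : zpowers x = zpowers a := eq_of_le_of_card_ge (zpowers_le.2 hx) (by
      rw [Nat.card_zpowers, Nat.card_zpowers, hao,
        orderOf_eq_prime (hA.2 x ((zpowers_le.2 haA) hx)) fun e => hx1 (mem_bot.2 e)])
    exact haU (hZU ((zpowers_le.2 hxZ) (h2 ▸ mem_zpowers a)))
  · exact fun x hx y hy => mem_centralizer_iff.1 hy.1 x hx
  · refine eq_of_le_of_card_ge (sup_le haC inf_le_left) ?_
    have hlt : K < zpowers a ⊔ K := by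
      refine lt_of_le_of_ne le_sup_right fun e => ?_
      have haK : a ∈ K := e ▸ mem_sup_left (mem_zpowers a)
      exact haU (hZU (hKA a haK (hA.2 a haA)))
    obtain ⟨n, hn⟩ := (hR.to_subgroup (zpowers a ⊔ K)).exists_card_eq
    obtain ⟨m, hm⟩ := (hR.to_subgroup K).exists_card_eq
    rw [← hC, ← hKC, hm, hn, ← pow_succ]
    refine Nat.pow_le_pow_right hp.out.pos ((Nat.pow_lt_pow_iff_right hp.out.one_lt).1 ?_)
    rw [← hm, ← hn]
    exact lt_of_le_of_ne (card_le_of_le hlt.le) fun e => hlt.ne (eq_of_le_of_card_ge hlt.le e.ge)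

end CfsgLib.OddLocal.Ten
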