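import Cfsg.Agent.Lib.OddLocal.Ten.Basic

/-!
The earlier results used by the section on maximal subgroups, packaged as hypotheses. Each is
discharged by the corresponding proved statement.
-/

set_option autoImplicit false

namespace CfsgLib.OddLocal.Ten

open Cfsg

universe u

/-- The uniqueness theorem in the group `G`. -/
def UniqHyp (G : Type u) [Group G] : Prop :=
  ∀ K : Subgroup G, K ≠ ⊤ → ¬ RankLE 1 K →
    (¬ RankLE 2 K ∨ ¬ RankLE 2 (Subgroup.centralizer (K : Set G))) → InUniqueMaximal K

/-- Structure of solvable groups of odd order and `p`-rank at most two (the parts used here). -/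
def RankTwoHyp : Prop :=
  ∀ (L : Type u) [Group L] [Finite L] [Group.IsSolvable L], Odd (Nat.card L) →
    ∀ (p : ℕ) [Fact p.Prime], p ∣ Nat.card L → PRankLE p 2 L →
      (∀ q : ℕ, q.Prime → q ∣ (pPrimeCore p L).index → q ≤ p) ∧
        HasNormalPComplement p ↥(commutator L) ∧ ((pPrimePCore p L).index).Coprime p

/-- Nilpotency of the derived group of an odd solvable group whose Fitting subgroup has rank two. -/
def DerivedNilHyp : Prop :=
  ∀ (L : Type u) [Group L] [Finite L] [Group.IsSolvable L], Odd (Nat.card L) →
    RankLE 2 (fittingSubgroup L) → Group.IsNilpotent ↥(commutator L)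

end CfsgLib.OddLocal.Ten
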