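import Cfsg.Prelude.Def_OddOrderLocal
import Cfsg.Agent.Lib.Solvable.Basic
import Cfsg.Agent.Lib.Cores.Basic
import Cfsg.Agent.Lib.PGroup.ElemAbelian
import Cfsg.Agent.Lib.PGroup.PLength

/-!
Basic facts for the local analysis of maximal subgroups in a minimal simple group of odd order:
Sylow subgroups of subgroups, the `π`-core, ranks, and the standing facts on maximal subgroups.
-/

set_option autoImplicit false

namespace CfsgLib.OddLocal.Ten

open Cfsg Subgroup CfsgLib.Solvable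
open scoped Pointwise

variable {G : Type*} [Group G] {p : ℕ}

/-- `P` is a Sylow `p`-subgroup of the subgroup `H`. -/
def SylIn (p : ℕ) (P H : Subgroup G) : Prop :=
  P ≤ H ∧ IsPGroup p P ∧ ¬ p ∣ P.relIndex H

theorem sylIn_map [Finite G] [Fact p.Prime] {H : Subgroup G} (S : Sylow p H) :
    SylIn p ((S : Subgroup H).map H.subtype) H := by
  refine ⟨map_subtype_le _, S.isPGroup'.map _, ?_⟩
  have : ((S : Subgroup H).map H.subtype).relIndex H = (S : Subgroup H).index := by
    unfold Subgroup.relIndex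
    congr 1
    exact comap_map_eq_self_of_injective H.subtype_injective _
  rw [this]
  exact S.not_dvd_index

theorem exists_sylIn [Finite G] [Fact p.Prime] (H : Subgroup G) : ∃ P, SylIn p P H :=
  ⟨_, sylIn_map (default : Sylow p H)⟩

theorem exists_sylIn_ge [Finite G] [Fact p.Prime] {X H : Subgroup G} (hX : IsPGroup p X)
    (hXH : X ≤ H) : ∃ P, SylIn p P H ∧ X ≤ P := by
  obtain ⟨S, hS⟩ := (hX.comap_of_injective H.subtype H.subtype_injective).exists_le_sylow
  exact ⟨_, sylIn_map S, fun x hx => ⟨⟨x, hXH hx⟩, hS hx, rfl⟩⟩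

theorem SylIn.exists_sylow [Finite G] [Fact p.Prime] {P H : Subgroup G} (h : SylIn p P H) :
    ∃ S : Sylow p H, (S : Subgroup H).map H.subtype = P := by
  refine ⟨(h.2.1.comap_of_injective H.subtype H.subtype_injective).toSylow h.2.2, ?_⟩
  exact (map_comap_eq H.subtype P).trans (by rw [range_subtype]; exact inf_eq_right.2 h.1)

theorem SylIn.exists_conj_le [Finite G] [Fact p.Prime] {P H X : Subgroup G} (h : SylIn p P H)
    (hX : IsPGroup p X) (hXH : X ≤ H) : ∃ g ∈ H, MulAut.conj g • X ≤ P := by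
  obtain ⟨S, rfl⟩ := h.exists_sylow
  obtain ⟨T, hT⟩ := (hX.comap_of_injective H.subtype H.subtype_injective).exists_le_sylow
  obtain ⟨g, rfl⟩ := MulAction.exists_smul_eq H T S
  refine ⟨g, g.2, conj_smul_le_iff.2 fun x hx => ⟨g * ⟨x, hXH hx⟩ * g⁻¹, ?_, rfl⟩⟩
  exact (mem_conj_smul_iff).2 (by simpa [mul_assoc] using hT (show ⟨x, hXH hx⟩ ∈ X.comap H.subtype from hx))

theorem SylIn.card_le [Finite G] [Fact p.Prime] {P H X : Subgroup G} (h : SylIn p P H)
    (hX : IsPGroup p X) (hXH : X ≤ H) : Nat.card X ≤ Nat.card P := by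
  obtain ⟨g, -, hg⟩ := h.exists_conj_le hX hXH
  rw [← card_conj_smul g X]
  exact card_le_of_le hg

theorem SylIn.eq_of_le [Finite G] [Fact p.Prime] {P H X : Subgroup G} (h : SylIn p P H)
    (hX : IsPGroup p X) (hXH : X ≤ H) (hPX : P ≤ X) : P = X :=
  eq_of_le_of_card_ge hPX (h.card_le hX hXH)

theorem SylIn.exists_conj_eq [Finite G] [Fact p.Prime] {P Q H : Subgroup G} (h : SylIn p P H)
    (h' : SylIn p Q H) : ∃ g ∈ H, MulAut.conj g • Q = P := by
  obtain ⟨g, hg, hle⟩ := h.exists_conj_le h'.2.1 h'.1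
  exact ⟨g, hg, conj_smul_eq_of_le hle (h'.card_le h.2.1 h.1)⟩

theorem SylIn.conj [Finite G] [Fact p.Prime] {P H : Subgroup G} (h : SylIn p P H) (g : G) :
    SylIn p (MulAut.conj g • P) (MulAut.conj g • H) := by
  refine ⟨conj_smul_mono g h.1, h.2.1.map _, ?_⟩
  rw [conj_smul_eq_map, conj_smul_eq_map, relIndex_map_map_of_injective _ _ (MulAut.conj g).injective]
  exact h.2.2

theorem SylIn.top_of_index [Finite G] [Fact p.Prime] {P H : Subgroup G} (h : SylIn p P H)
    (hi : ¬ p ∣ P.index) : SylIn p P ⊤ :=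
  ⟨le_top, h.2.1, by rwa [relIndex_top_right]⟩

theorem SylIn.exists_sylow_top [Finite G] [Fact p.Prime] {P : Subgroup G} (h : SylIn p P ⊤) :
    ∃ S : Sylow p G, (S : Subgroup G) = P :=
  ⟨h.2.1.toSylow (by rw [← relIndex_top_right]; exact h.2.2), rfl⟩

theorem sylIn_top (S : Sylow p G) [Finite G] [Fact p.Prime] : SylIn p (S : Subgroup G) ⊤ :=
  ⟨le_top, S.isPGroup', by rw [relIndex_top_right]; exact S.not_dvd_index⟩

theorem SylIn.of_le [Finite G] [Fact p.Prime] {P H K : Subgroup G} (h : SylIn p P K) (hPH : P ≤ H)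
    (hHK : H ≤ K) : SylIn p P H :=
  ⟨hPH, h.2.1, fun hd => h.2.2 (hd.trans (by
    rw [← relIndex_mul_relIndex P H K hPH hHK]; exact dvd_mul_right _ _))⟩

/-- A `p`-subgroup which is not Sylow in `H` is not its own normalizer there. -/
theorem exists_gt_normalizer [Finite G] [Fact p.Prime] {X H : Subgroup G} (hX : IsPGroup p X)
    (hXH : X ≤ H) (hns : ¬ SylIn p X H) :
    ∃ Y : Subgroup G, X < Y ∧ IsPGroup p Y ∧ Y ≤ H ∧ Y ≤ normalizer (X : Set G) := by
  obtain ⟨P, hP, hXP⟩ := exists_sylIn_ge hX hXH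
  have hlt : X < P := lt_of_le_of_ne hXP fun h => hns (h ▸ hP)
  have : Group.IsNilpotent P := hP.2.1.isNilpotent
  have hlt' : X.subgroupOf P < ⊤ := by
    rw [lt_top_iff_ne_top, Ne, subgroupOf_eq_top]
    exact hlt.not_ge
  have hN := Group.normalizerCondition_of_isNilpotent (X.subgroupOf P) hlt'
  refine ⟨(normalizer (X.subgroupOf P : Set P)).map P.subtype, ?_, ?_, (map_subtype_le _).trans hP.1, ?_⟩
  · have h2 := (map_lt_map_iff_of_injective P.subtype_injective).2 hN
    rwa [subgroupOf_map_subtype, inf_eq_left.2 hXP] at h2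
  · exact hP.2.1.to_le (map_subtype_le _)
  · rintro _ ⟨n, hn, rfl⟩
    refine mem_normalizer_iff_conj_smul.2 (conj_smul_eq_of_le (conj_smul_le_iff.2 fun x hx => ?_) le_rfl)
    exact (mem_normalizer_iff.1 hn ⟨x, hXP hx⟩).1 hx

/-! ### The `π`-core -/

theorem prime_mem_piCore [Finite G] {π : Set ℕ} {r : ℕ} (hr : r.Prime)
    (hd : r ∣ Nat.card (piCore π G)) : r ∈ π :=
  CfsgLib.Cores.sSup_normal_induction (fun N => ∀ r : ℕ, r.Prime → r ∣ Nat.card N → r ∈ π)
    (fun r hr hd => absurd (Subgroup.card_bot (G := G) ▸ hd) hr.not_dvd_one)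
    (fun N M _ _ hN hM r hr hd =>
      ((Nat.Prime.dvd_mul hr).1 (hd.trans (CfsgLib.Cores.card_sup_dvd_mul N M))).elim (hN r hr) (hM r hr))
    {N : Subgroup G | N.Normal ∧ ∀ p : ℕ, p.Prime → p ∣ Nat.card N → p ∈ π} (fun _ h => h) r hr hd

theorem le_piCore {π : Set ℕ} {N : Subgroup G} [hN : N.Normal]
    (h : ∀ r : ℕ, r.Prime → r ∣ Nat.card N → r ∈ π) : N ≤ piCore π G :=
  le_sSup ⟨hN, h⟩

theorem piCore_mono [Finite G] {π π' : Set ℕ} (h : π ⊆ π') : piCore π G ≤ piCore π' G :=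
  le_piCore fun _ hr hd => h (prime_mem_piCore hr hd)

theorem piCore_characteristic [Finite G] (π : Set ℕ) : (piCore π G).Characteristic := by
  rw [characteristic_iff_map_le]
  intro φ
  have : ((piCore π G).map φ.toMonoidHom).Normal :=
    (piCore_normal π G).map φ.toMonoidHom φ.surjective
  exact le_piCore fun r hr hd => prime_mem_piCore hr
    (by rwa [card_map_of_injective (f := φ.toMonoidHom) φ.injective] at hd)

theorem piCoreOf_le (π : Set ℕ) (M : Subgroup G) : piCoreOf π M ≤ M := map_subtype_le _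

theorem alphaCore_le (M : Subgroup G) : alphaCore M ≤ M := map_subtype_le _

theorem sigmaCore_le (M : Subgroup G) : sigmaCore M ≤ M := map_subtype_le _

theorem prime_mem_piCoreOf [Finite G] {π : Set ℕ} {M : Subgroup G} {r : ℕ} (hr : r.Prime)
    (hd : r ∣ Nat.card (piCoreOf π M)) : r ∈ π := by
  unfold piCoreOf at hd
  rw [card_map_of_injective M.subtype_injective] at hd
  exact prime_mem_piCore hr hd

theorem le_normalizer_piCoreOf (π : Set ℕ) (M : Subgroup G) :
    M ≤ normalizer (piCoreOf π M : Set G) := by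
  have h := le_normalizer_map M.subtype (H := piCore π M)
  rwa [normalizer_eq_top_iff.2 (piCore_normal π M), ← MonoidHom.range_eq_map, range_subtype] at h

theorem isPiHallOf_piCoreOf [Finite G] {π : Set ℕ} {M : Subgroup G}
    (h : ∀ r : ℕ, r.Prime → r ∈ π → ¬ r ∣ (piCore π M).index) :
    IsPiHallOf π (piCoreOf π M) M := by
  refine ⟨piCoreOf_le π M, fun r hr hd => prime_mem_piCoreOf hr hd, fun r hr hrπ => ?_⟩
  have : (piCoreOf π M).relIndex M = (piCore π M).index := by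
    unfold Subgroup.relIndex
    congr 1
    exact comap_map_eq_self_of_injective M.subtype_injective _
  rw [this]
  exact h r hr hrπ

/-- A Hall subgroup for the primes where a Sylow subgroup of `M` is Sylow in the whole group. -/
theorem isPiHall_of_isPiHallOf [Finite G] {π : Set ℕ} {H M : Subgroup G} (h : IsPiHallOf π H M)
    (hi : ∀ r : ℕ, r.Prime → r ∈ π → ¬ r ∣ M.index) : IsPiHall π H :=
  ⟨h.2.1, fun r hr hrπ hd => by
    rw [← relIndex_mul_index h.1] at hd
    exact (hr.dvd_mul.1 hd).elim (h.2.2 r hr hrπ) (hi r hr hrπ)⟩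

theorem SylIn.le_of_normal_hall [Finite G] [hp : Fact p.Prime] {X H N : Subgroup G} (hX : IsPGroup p X)
    (hXH : X ≤ H) (hNH : H ≤ normalizer (N : Set G)) (hi : ¬ p ∣ N.relIndex H) : X ≤ N := by
  refine relIndex_eq_one.1 ?_
  obtain ⟨k, hk⟩ := hX.exists_card_eq
  have : (N.subgroupOf H).Normal := ⟨fun n hn g => by
    rw [mem_subgroupOf] at hn ⊢
    simpa using (mem_normalizer_iff.1 (hNH g.2) n).1 hn⟩
  have h1 : (N.subgroupOf H).relIndex (X.subgroupOf H) ∣ (N.subgroupOf H).index :=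
    relIndex_dvd_index_of_normal _ _
  rw [relIndex_subgroupOf hXH] at h1
  have h2 : N.relIndex X ∣ p ^ k := hk ▸ relIndex_dvd_card N X
  obtain ⟨j, -, hj⟩ := (Nat.dvd_prime_pow hp.out).1 h2
  rcases j with _ | j
  · simpa using hj
  · exact absurd ((Dvd.intro_left _ (pow_succ p j).symm).trans (hj ▸ h1)) hi

/-! ### Ranks -/

theorem exists_elemAb_of_not_pRankLE [Finite G] [hp : Fact p.Prime] {k : ℕ} {H : Subgroup G}
    (h : ¬ PRankLE p k H) :
    ∃ A : Subgroup G, A ≤ H ∧ IsElementaryAbelian p A ∧ Nat.card A = p ^ (k + 1) := by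
  rw [CfsgLib.PGroup.pRankLE_subgroup_iff] at h
  push Not at h
  obtain ⟨A, hAH, hA, hc⟩ := h
  obtain ⟨n, hn⟩ := (CfsgLib.PGroup.elemAb_isPGroup hA).exists_card_eq
  have hkn : k + 1 ≤ n := by
    rw [hn] at hc
    exact (Nat.pow_lt_pow_iff_right hp.out.one_lt).1 hc
  obtain ⟨B, hB⟩ := Sylow.exists_subgroup_card_pow_prime (G := A) p (n := k + 1)
    (hn ▸ pow_dvd_pow p hkn)
  refine ⟨B.map A.subtype, (map_subtype_le B).trans hAH,
    CfsgLib.PGroup.elemAb_mono hA (map_subtype_le B), ?_⟩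
  rw [card_map_of_injective A.subtype_injective, hB]

theorem not_pRankLE_of_elemAb [hp : Fact p.Prime] {k n : ℕ} {H A : Subgroup G} (hAH : A ≤ H)
    (hA : IsElementaryAbelian p A) (hc : Nat.card A = p ^ n) (hkn : k < n) : ¬ PRankLE p k H :=
  fun h => ((CfsgLib.PGroup.pRankLE_subgroup_iff H).1 h A hAH hA).not_gt
    (hc ▸ Nat.pow_lt_pow_right hp.out.one_lt hkn)

theorem not_rankLE_of_elemAb [hp : Fact p.Prime] {k n : ℕ} {H A : Subgroup G} (hAH : A ≤ H)
    (hA : IsElementaryAbelian p A) (hc : Nat.card A = p ^ n) (hkn : k < n) : ¬ RankLE k H :=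
  fun h => not_pRankLE_of_elemAb hAH hA hc hkn (h p hp.out)

theorem exists_elemAb_of_not_rankLE [Finite G] {k : ℕ} {H : Subgroup G} (h : ¬ RankLE k H) :
    ∃ q : ℕ, q.Prime ∧ ∃ A : Subgroup G, A ≤ H ∧ IsElementaryAbelian q A ∧ Nat.card A = q ^ (k + 1) := by
  simp only [RankLE, not_forall] at h
  obtain ⟨q, hq, hr⟩ := h
  have : Fact q.Prime := ⟨hq⟩
  exact ⟨q, hq, exists_elemAb_of_not_pRankLE hr⟩

theorem dvd_card_of_not_pRankLE [Finite G] [Fact p.Prime] {k : ℕ} {H : Subgroup G}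
    (h : ¬ PRankLE p k H) : p ∣ Nat.card H := by
  obtain ⟨A, hAH, -, hc⟩ := exists_elemAb_of_not_pRankLE h
  exact (dvd_pow_self p k.succ_ne_zero).trans (hc ▸ card_dvd_of_le hAH)

theorem SylIn.exists_elemAb [Finite G] [Fact p.Prime] {k : ℕ} {P H : Subgroup G} (hP : SylIn p P H)
    (h : ¬ PRankLE p k H) :
    ∃ A : Subgroup G, A ≤ P ∧ IsElementaryAbelian p A ∧ Nat.card A = p ^ (k + 1) := by
  obtain ⟨A, hAH, hA, hc⟩ := exists_elemAb_of_not_pRankLE h
  obtain ⟨g, -, hg⟩ := hP.exists_conj_le (CfsgLib.PGroup.elemAb_isPGroup hA) hAH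
  exact ⟨_, hg, CfsgLib.PGroup.elemAb_map hA _, by rw [card_conj_smul, hc]⟩

/-! ### The minimal simple group -/

variable [Finite G] (hG : IsMinSimpleOddOrder G)
include hG

omit [Finite G] in
theorem isSolvable_of_ne_top {H : Subgroup G} (hH : H ≠ ⊤) : Group.IsSolvable H := hG.2.2.2 H hH

omit [Finite G] in
theorem odd_card_subgroup (H : Subgroup G) : Odd (Nat.card H) :=
  hG.1.of_dvd_nat (card_subgroup_dvd_card H)

omit [Finite G] in
theorem ne_two_of_dvd {H : Subgroup G} (hd : p ∣ Nat.card H) : p ≠ 2 := fun h =>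
  Nat.not_even_iff_odd.2 (odd_card_subgroup hG H) (even_iff_two_dvd.2 (h ▸ hd))

omit [Finite G] in
theorem commutator_eq_top : commutator G = ⊤ :=
  (hG.2.1.eq_bot_or_eq_top_of_normal (commutator G) inferInstance).resolve_left fun h =>
    hG.2.2.1 ⟨⟨fun a b => commutatorElement_eq_one_iff_mul_comm.1 ((mem_bot).1
      (h ▸ (commutator_def G ▸ commutator_mem_commutator (mem_top a) (mem_top b))))⟩⟩

omit [Finite G] in
theorem normalizer_ne_top {R : Subgroup G} (h1 : R ≠ ⊥) (h2 : R ≠ ⊤) :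
    normalizer (R : Set G) ≠ ⊤ := fun h =>
  (hG.2.1.eq_bot_or_eq_top_of_normal R (normalizer_eq_top_iff.1 h)).elim h1 h2

omit [Finite G] in
theorem center_eq_bot : center G = ⊥ :=
  (hG.2.1.eq_bot_or_eq_top_of_normal (center G) inferInstance).resolve_right fun h =>
    hG.2.2.1 ⟨⟨fun x y => (mem_center_iff.1 (h ▸ mem_top x) y).symm⟩⟩

omit [Finite G] in
theorem centralizer_ne_top {R : Subgroup G} (h1 : R ≠ ⊥) : centralizer (R : Set G) ≠ ⊤ := by
  intro h
  have hle : R ≤ center G := fun x hx => ?_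
  · exact h1 (le_bot_iff.1 (hle.trans (center_eq_bot hG).le))
  exact mem_center_iff.2 fun g => (mem_centralizer_iff.1 (h ▸ mem_top g) x hx).symm

theorem pGroup_ne_top [Fact p.Prime] {R : Subgroup G} (hR : IsPGroup p R) : R ≠ ⊤ := by
  rintro rfl
  have hpG : IsPGroup p G := hR.of_equiv topEquiv
  have : Nontrivial G := hG.2.1.toNontrivial
  have := hpG.center_nontrivial
  obtain ⟨x, hx⟩ := exists_ne (1 : center G)
  exact hx (Subtype.ext ((mem_bot).1 ((center_eq_bot hG) ▸ x.2)))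

omit [Finite G] in
theorem coatom_ne_bot {M : Subgroup G} (hM : IsCoatom M) : M ≠ ⊥ := by
  rintro rfl
  refine hG.2.2.1 ?_
  have : Nontrivial G := hG.2.1.toNontrivial
  obtain ⟨x, hx⟩ := exists_ne (1 : G)
  have hz : zpowers x = ⊤ := hM.2 _ (bot_lt_iff_ne_bot.2 (zpowers_ne_bot.2 hx))
  have hmul : ∀ a b : G, a * b = b * a := fun a b => by
    obtain ⟨i, rfl⟩ := mem_zpowers_iff.1 (hz ▸ mem_top a)
    obtain ⟨j, rfl⟩ := mem_zpowers_iff.1 (hz ▸ mem_top b)
    exact zpow_mul_comm x i j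
  exact ⟨⟨hmul⟩⟩

omit [Finite G] in
theorem normalizer_coatom {M : Subgroup G} (hM : IsCoatom M) : normalizer (M : Set G) = M :=
  le_antisymm (by
    by_contra h
    exact normalizer_ne_top hG (coatom_ne_bot hG hM) hM.1
      (hM.2 _ (lt_of_le_not_ge le_normalizer h))) le_normalizer

omit [Finite G] in
theorem mem_of_conj_smul_eq {M : Subgroup G} (hM : IsCoatom M) {g : G}
    (h : MulAut.conj g • M = M) : g ∈ M := by
  rw [← normalizer_coatom hG hM]
  exact mem_normalizer_iff_conj_smul.2 h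

end CfsgLib.OddLocal.Ten
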