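import Cfsg.Agent.Lib.OddLocal.Ten.Cores
import Cfsg.Agent.Lib.OddLocal.Ten.Narrow
import Cfsg.Agent.Lib.OddLocal.Ten.Complement
import Cfsg.Agent.Lib.PGroup.CoprimeHall

/-!
`M_β` is a Hall subgroup; `M'` and `M_σ` have normal `p`-complements for `p ∉ β(M)`.
-/

set_option autoImplicit false

namespace CfsgLib.OddLocal.Ten

open Cfsg Subgroup CfsgLib.Solvable
open scoped Pointwise

universe u

/-- Structure of odd solvable groups with a narrow Sylow subgroup (the parts used here). -/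
def NarrowHyp : Prop :=
  ∀ (L : Type u) [Group L] [Finite L] [Group.IsSolvable L], Odd (Nat.card L) →
    ∀ (p : ℕ) [Fact p.Prime], p ∣ Nat.card L → ∀ S : Sylow p L, IsNarrow p ↥(S : Subgroup L) →
      (¬ PRankLE p 2 ↥(S : Subgroup L) → PLengthLE p 1 L) →
      (∀ q : ℕ, q.Prime → q ∣ (pPrimeCore p L).index → q ≤ p) ∧ HasNormalPComplement p ↥(commutator L)

/-- A group with a normal `p`-complement for each prime is nilpotent. -/
theorem isNilpotent_of_forall_complement {H : Type u} [Group H] [Finite H]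
    (h : ∀ p : ℕ, p.Prime → p ∣ Nat.card H → HasNormalPComplement p H) : Group.IsNilpotent H := by
  let ps := (Nat.card H).primeFactors
  have hnil : ∀ p : ps, Group.IsNilpotent (H ⧸ pPrimeCore (p : ℕ) H) := fun p => by
    have : Fact (p : ℕ).Prime := ⟨Nat.prime_of_mem_primeFactors p.2⟩
    obtain ⟨k, hk⟩ := index_pPrimeCore_eq_pow
      (h p (Nat.prime_of_mem_primeFactors p.2) (Nat.dvd_of_mem_primeFactors p.2))
    exact (IsPGroup.of_card (show Nat.card (H ⧸ pPrimeCore (p : ℕ) H) = _ from hk)).isNilpotent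
  let φ : H →* ((p : ps) → H ⧸ pPrimeCore (p : ℕ) H) :=
    MonoidHom.pi fun p => QuotientGroup.mk' _
  have hinj : Function.Injective φ := by
    rw [← MonoidHom.ker_eq_bot_iff, eq_bot_iff]
    intro x hx
    refine mem_bot.2 (orderOf_eq_one_iff.1 (Nat.eq_one_iff_not_exists_prime_dvd.2 fun q hq hd => ?_))
    have hqH := hd.trans (orderOf_dvd_natCard x)
    have : Fact q.Prime := ⟨hq⟩
    have hxq : x ∈ pPrimeCore q H := (QuotientGroup.eq_one_iff x).1
      (congrFun hx ⟨q, Nat.mem_primeFactors.2 ⟨hq, hqH, Nat.card_pos.ne'⟩⟩)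
    exact hq.coprime_iff_not_dvd.1 ((mem_pPrimeCore_iff (h q hq hqH)).1 hxq).symm hd
  exact Group.nilpotent_of_mulEquiv (_h := (inferInstance : Group.IsNilpotent φ.range))
    (MonoidHom.ofInjective hinj).symm

variable {G : Type u} [Group G] [Finite G] {M : Subgroup G}
  (hG : IsMinSimpleOddOrder G) (hU : UniqHyp G) (h50 : RankTwoHyp.{u}) (h51 : DerivedNilHyp.{u})
  (h55 : NarrowHyp.{u}) (hpl : ∀ (p : ℕ) [Fact p.Prime] (H : Subgroup G), H ≠ ⊤ → PLengthLE p 1 H)

include hG hU in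
/-- For `p ∉ β(M)` a Sylow `p`-subgroup of `M` is narrow. -/
theorem isNarrow_sylow (hM : IsCoatom M) {p : ℕ} [hp : Fact p.Prime] (hd : p ∣ Nat.card M)
    (hβ : p ∉ beta M) (S : Sylow p M) : IsNarrow p ↥(S : Subgroup M) := by
  by_cases hr : PRankLE p 2 M
  · exact Or.inl (CfsgLib.PGroup.pRankLE_subgroup hr _)
  have hα : p ∈ alpha M := ⟨hp.out, hr⟩
  have hrG : ¬ PRankLE p 2 G := fun h => hr (CfsgLib.PGroup.pRankLE_subgroup h M)
  have hni : ¬ IsIdealPrime p G := fun h => hβ ⟨hα, h⟩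
  simp only [IsIdealPrime, hp.out, hrG, not_false_iff, true_and, not_forall, not_exists, not_and] at hni
  obtain ⟨P₀, A, hAP, hA, hAc, hmax⟩ := hni
  have hS := sylIn_top_of_sigma (alpha_subset_sigma hG hU hM hα) (sylIn_map S)
  obtain ⟨g, -, hg⟩ := hS.exists_conj_eq (sylIn_top P₀)
  set φ := M.subtype.comp (S : Subgroup M).subtype with hφ
  have hφi : Function.Injective φ := M.subtype_injective.comp (Subgroup.subtype_injective _)
  have hrange : φ.range = (S : Subgroup M).map M.subtype := by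
    rw [hφ, MonoidHom.range_eq_map, ← map_map, ← MonoidHom.range_eq_map, range_subtype]
  have hrS : ¬ PRankLE p 2 ↥(S : Subgroup M) := by
    intro h
    obtain ⟨B, hBS, hB, hBc⟩ := (sylIn_map S).exists_elemAb hr
    have hle : B ≤ φ.range := hrange.symm ▸ hBS
    have h1 := CfsgLib.PGroup.pRankLE_iff.1 h (B.comap φ) (CfsgLib.PGroup.elemAb_comap hB φ hφi)
    rw [← card_map_of_injective hφi, map_comap_eq_self hle, hBc] at h1
    exact (Nat.pow_lt_pow_right hp.out.one_lt (by norm_num : 2 < 2 + 1)).not_ge h1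
  have hA' : MulAut.conj g • A ≤ φ.range := hrange.symm ▸ hg ▸ conj_smul_mono g hAP
  have hA'e : IsElementaryAbelian p (MulAut.conj g • A) := CfsgLib.PGroup.elemAb_map hA _
  refine isNarrow_of_maximal_sq S.isPGroup' (ne_two_of_dvd hG hd) hrS
    (A := (MulAut.conj g • A).comap φ) (CfsgLib.PGroup.elemAb_comap hA'e φ hφi) ?_ ?_
  · rw [← card_map_of_injective hφi, map_comap_eq_self hA', card_conj_smul, hAc]
  · intro B hB hle
    have hle' : MulAut.conj g • A ≤ B.map φ := map_comap_eq_self hA' ▸ map_mono hle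
    have hBle : MulAut.conj g⁻¹ • B.map φ ≤ (P₀ : Subgroup G) := by
      refine (conj_smul_mono g⁻¹ ((map_le_range φ B).trans hrange.le)).trans ?_
      rw [← hg, conj_smul_conj_smul, inv_mul_cancel, map_one, one_smul]
    have hAle : A ≤ MulAut.conj g⁻¹ • B.map φ := by
      have := conj_smul_mono g⁻¹ hle'
      rwa [conj_smul_conj_smul, inv_mul_cancel, map_one, one_smul] at this
    have he : A = MulAut.conj g⁻¹ • B.map φ := by
      by_contra hne
      exact hmax _ hBle (CfsgLib.PGroup.elemAb_map (CfsgLib.PGroup.elemAb_map hB φ) _)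
        (lt_of_le_of_ne hAle hne)
    rw [he, conj_smul_conj_smul, mul_inv_cancel, map_one, one_smul, comap_map_eq_self_of_injective hφi]

include hG hU h50 h51 h55 hpl

theorem complements_of_not_beta (hM : IsCoatom M) {p : ℕ} (hp : p.Prime) (hd : p ∣ Nat.card M)
    (hβ : p ∉ beta M) :
    HasNormalPComplement p ↥⁅M, M⁆ ∧ HasNormalPComplement p ↥(sigmaCore M) ∧
      ∀ q : ℕ, q.Prime → q ∣ (pPrimeCore p ↥M).index → q ≤ p := by
  have : Fact p.Prime := ⟨hp⟩
  have : Group.IsSolvable M := isSolvable_of_ne_top hG hM.1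
  obtain ⟨h1, h2⟩ := h55 M (odd_card_subgroup hG M) p hd default
    (isNarrow_sylow hG hU hM hd hβ default) (fun _ => hpl p M hM.1)
  have h3 : HasNormalPComplement p ↥⁅M, M⁆ :=
    (CfsgLib.Transfer.hasNormalPComplement_congr
      ((equivMapOfInjective (commutator ↥M) M.subtype M.subtype_injective).trans
        (MulEquiv.subgroupCongr (map_subtype_commutator M)))).1 h2
  exact ⟨h3, CfsgLib.Transfer.hasNormalPComplement_of_injective
    (Subgroup.inclusion (sigmaCore_le_commutator hG hU h50 h51 hM)) (inclusion_injective _) h3, h1⟩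

theorem not_dvd_index_beta (hM : IsCoatom M) {q : ℕ} (hq : q.Prime) (hqβ : q ∈ beta M) :
    ¬ q ∣ (piCore (beta M) ↥M).index := by
  have : Fact q.Prime := ⟨hq⟩
  set L := commutator ↥M with hL
  set ps := {p : ℕ | p.Prime ∧ p ∣ Nat.card L ∧ p ∉ beta M}
  set I : Subgroup ↥L := ⨅ p : ps, pPrimeCore (p : ℕ) ↥L with hI
  have hncL : ∀ p : ps, HasNormalPComplement (p : ℕ) ↥L := fun p => by
    have : Fact (p : ℕ).Prime := ⟨p.2.1⟩
    exact (CfsgLib.Transfer.hasNormalPComplement_congr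
      ((equivMapOfInjective L M.subtype M.subtype_injective).trans
        (MulEquiv.subgroupCongr (map_subtype_commutator M)))).2
      (complements_of_not_beta hG hU h50 h51 h55 hpl hM p.2.1
        (p.2.2.1.trans (card_subgroup_dvd_card L)) p.2.2.2).1
  have hIc : I.Characteristic := by
    rw [characteristic_iff_map_le]
    intro φ
    refine le_iInf fun p => (map_mono (iInf_le _ p)).trans ?_
    exact (CfsgLib.Cores.map_pPrimeCore_equiv φ).le
  have hIn : (I.map L.subtype).Normal := ConjAct.normal_of_characteristic_of_normal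
  have hIβ : I.map L.subtype ≤ piCore (beta M) ↥M := by
    refine le_piCore fun r hr hd => ?_
    rw [card_map_of_injective L.subtype_injective] at hd
    by_contra hrβ
    have : Fact r.Prime := ⟨hr⟩
    exact CfsgLib.Cores.not_dvd_card_pPrimeCore (G := ↥L) r (hd.trans (card_dvd_of_le
      (iInf_le (fun p : ps => pPrimeCore (p : ℕ) ↥L) ⟨r, hr, hd.trans (card_subgroup_dvd_card I), hrβ⟩)))
  have S := (default : Sylow q M)
  refine fun hd => S.not_dvd_index (hd.trans (index_dvd_of_le (le_trans ?_ hIβ)))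
  intro x hx
  have hqσ := alpha_subset_sigma hG hU hM hqβ.1
  have hxL : x ∈ L := by
    obtain ⟨y, hy, e⟩ : (x : G) ∈ L.map M.subtype := by
      rw [map_subtype_commutator]
      exact sylIn_le_commutator hG hU h50 hM hqσ (sylIn_map S) (mem_map_of_mem M.subtype hx)
    exact M.subtype_injective e ▸ hy
  refine ⟨⟨x, hxL⟩, mem_iInf.2 fun p => ?_, rfl⟩
  have : Fact (p : ℕ).Prime := ⟨p.2.1⟩
  refine (mem_pPrimeCore_iff (hncL p)).2 ?_
  obtain ⟨k, hk⟩ := IsPGroup.iff_orderOf.1 S.isPGroup' ⟨x, hx⟩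
  rw [Subgroup.orderOf_mk] at hk
  rw [Subgroup.orderOf_mk, hk]
  exact Nat.Coprime.pow_left k ((Nat.coprime_primes hq p.2.1).2 fun e => p.2.2.2 (e ▸ hqβ))

omit hU h50 h51 h55 hpl in
theorem exists_nilpotent_hall (hM : IsCoatom M) {L : Subgroup G} (hLM : L ≤ M)
    (hL : ∀ p : ℕ, p.Prime → p ∣ Nat.card M → p ∉ beta M → HasNormalPComplement p L) :
    ∃ H : Subgroup G, IsPiHallOf {q | q.Prime ∧ q ∉ beta M} H L ∧ Group.IsNilpotent H := by
  obtain ⟨H, hH⟩ := CfsgLib.PGroup.exists_isPiHallOf {q | q.Prime ∧ q ∉ beta M} L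
    (isSolvable_of_ne_top hG fun e => hM.1 (top_le_iff.1 (e.ge.trans hLM)))
  refine ⟨H, hH, isNilpotent_of_forall_complement fun p hp hd => ?_⟩
  have : Fact p.Prime := ⟨hp⟩
  exact CfsgLib.Transfer.hasNormalPComplement_of_injective (Subgroup.inclusion hH.1) (inclusion_injective _)
    (hL p hp (hd.trans (card_dvd_of_le (hH.1.trans hLM))) (hH.2.1 p hp hd).2)

theorem beta_core_and_complements (hM : IsCoatom M) :
    IsPiHallOf (beta M) (piCoreOf (beta M) M) M ∧ IsPiHall (beta M) (piCoreOf (beta M) M) ∧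
      (∃ H : Subgroup G, IsPiHallOf {q | q.Prime ∧ q ∉ beta M} H ⁅M, M⁆ ∧ Group.IsNilpotent H) ∧
      (∃ H : Subgroup G, IsPiHallOf {q | q.Prime ∧ q ∉ beta M} H (sigmaCore M) ∧ Group.IsNilpotent H) ∧
      ∀ p : ℕ, p.Prime → p ∣ Nat.card M → p ∉ beta M →
        HasNormalPComplement p ↥⁅M, M⁆ ∧ HasNormalPComplement p ↥(sigmaCore M) ∧
        ∀ q : ℕ, q.Prime → q ∣ (pPrimeCore p ↥M).index → q ≤ p := by
  have hh : IsPiHallOf (beta M) (piCoreOf (beta M) M) M :=
    isPiHallOf_piCoreOf fun _ hr hrb => not_dvd_index_beta hG hU h50 h51 h55 hpl hM hr hrb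
  have hc := fun p hp hd hb => complements_of_not_beta hG hU h50 h51 h55 hpl hM (p := p) hp hd hb
  exact ⟨hh, isPiHall_of_isPiHallOf hh fun _ _ hrb =>
      not_dvd_index_of_sigma (alpha_subset_sigma hG hU hM hrb.1),
    exists_nilpotent_hall hG hM (commutator_le_self M)
      (fun p hp hd hb => (hc p hp hd hb).1),
    exists_nilpotent_hall hG hM (sigmaCore_le M)
      (fun p hp hd hb => (hc p hp hd hb).2.1), hc⟩

end CfsgLib.OddLocal.Ten
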