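import Cfsg.Agent.Lib.OddLocal.Ten.Centralizers
import Cfsg.Agent.Lib.OddLocal.Ten.PLengthTools
import Cfsg.Agent.S1459
import Cfsg.Agent.Lib.Solvable.Hall

/-!
Every proper subgroup of a minimal simple group of odd order has `p`-length one.
-/

set_option autoImplicit false

namespace CfsgLib.OddLocal.Ten

open Cfsg Subgroup CfsgLib.Solvable
open scoped Pointwise

universe u

/-- The commutator of a normal Hall subgroup with a complement has `p`-length one. -/
def CommPLengthHyp : Prop :=
  ∀ (L : Type u) [Group L] [Finite L] [Group.IsSolvable L], Odd (Nat.card L) →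
    ∀ (H R R₀ : Subgroup L) [H.Normal], (Nat.card H).Coprime H.index → Subgroup.IsComplement' H R →
      R₀ ≤ R → (Nat.card R₀).Prime → IsZGroup ↥(H ⊓ Subgroup.centralizer (R₀ : Set L)) →
      ∀ (p : ℕ) [Fact p.Prime], PLengthLE p 1 ↥⁅H, R⁆

variable {G : Type u} [Group G] [Finite G]
  (hG : IsMinSimpleOddOrder G) (hU : UniqHyp G) (h50 : RankTwoHyp.{u}) (h51 : DerivedNilHyp.{u})
  (h44 : CommPLengthHyp.{u})
include hG hU h50 h51 h44

theorem pLengthLE_one_coatom {M : Subgroup G} (hM : IsCoatom M) (p : ℕ) [hp : Fact p.Prime] :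
    PLengthLE p 1 M := by
  have hsolv : Group.IsSolvable M := isSolvable_of_ne_top hG hM.1
  by_cases hd : p ∣ Nat.card M
  swap
  · exact pLengthLE_one_of_not_dvd hd
  by_cases hr : PRankLE p 2 M
  · exact pLengthLE_one_of_pPrimePCore (h50 M (odd_card_subgroup hG M) p hd hr).2.2
  have hpα : p ∈ alpha M := ⟨hp.out, hr⟩
  -- a prime outside `σ(M)`
  obtain ⟨q, hq, hqM, hqσ⟩ : ∃ q : ℕ, q.Prime ∧ q ∣ Nat.card M ∧ q ∉ sigma M := by
    by_contra hc
    push Not at hc
    have htop : piCore (sigma M) ↥M = ⊤ := top_le_iff.1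
      (le_piCore fun r hr hd' => hc r hr (card_top (G := ↥M) ▸ hd'))
    have hle : M ≤ ⁅M, M⁆ := by
      refine le_trans ?_ (sigmaCore_le_commutator hG hU h50 h51 hM)
      rw [sigmaCore, htop, ← MonoidHom.range_eq_map, range_subtype]
    have : Nontrivial M := M.nontrivial_iff_ne_bot.2 (coatom_ne_bot hG hM)
    refine (Group.IsSolvable.commutator_lt_top_of_nontrivial (G := ↥M)).ne (top_le_iff.1 fun a _ => ?_)
    obtain ⟨b, hb, e⟩ : (a : G) ∈ (commutator ↥M).map M.subtype := by
      rw [map_subtype_commutator]; exact hle a.2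
    exact M.subtype_injective e ▸ hb
  have : Fact q.Prime := ⟨hq⟩
  obtain ⟨x, hxZ, hxo, hxZG, -⟩ := exists_central_not_unique hG hU h50 h51 hM hqM hqσ default
  have hxM : x ∈ M := map_subtype_le _ hxZ
  set H := piCore (alpha M) ↥M with hH
  have hHall : (Nat.card H).Coprime H.index := Nat.coprime_of_dvd fun r hr h1 h2 =>
    not_dvd_index_alpha hG hU h50 h51 hM hr (prime_mem_piCore hr h1) h2
  set y : ↥M := ⟨x, hxM⟩ with hy
  have hyo : orderOf y = q := by rw [← hxo, ← Subgroup.orderOf_coe]
  obtain ⟨K₀, hK₀⟩ := exists_right_complement'_of_coprime hHall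
  have hcard : Nat.card K₀ = H.index := hK₀.symm.index_eq_card.symm
  have hindex : K₀.index = Nat.card H := hK₀.index_eq_card
  obtain ⟨g, hg⟩ := exists_conj_le_of_coprime_index (H := K₀) (K := zpowers y)
    (by rw [hcard, hindex]; exact hHall.symm) (by
      rw [hindex, Nat.card_zpowers, hyo, hq.coprime_iff_not_dvd]
      exact fun h => hqσ (alpha_subset_sigma hG hU hM (prime_mem_piCore hq h)))
  set K := MulAut.conj g⁻¹ • K₀ with hK
  have hKc : IsComplement' H K := isComplement'_of_coprime
    (by rw [hK, card_conj_smul, hcard, card_mul_index])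
    (by rw [hK, card_conj_smul, hcard]; exact hHall)
  have hyK : zpowers y ≤ K := by
    have := conj_smul_mono g⁻¹ hg
    rwa [conj_smul_conj_smul, inv_mul_cancel, map_one, one_smul] at this
  have hZ : IsZGroup ↥(H ⊓ centralizer (zpowers y : Set ↥M)) := by
    have hmem : ∀ a : ↥(H ⊓ centralizer (zpowers y : Set ↥M)),
        ((a : ↥M) : G) ∈ alphaCore M ⊓ centralizer ({x} : Set G) := fun a =>
      ⟨mem_map_of_mem M.subtype a.2.1, mem_centralizer_singleton_iff.2
        (congrArg Subtype.val (mem_centralizer_iff.1 a.2.2 y (mem_zpowers y))).symm⟩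
    exact IsZGroup.of_injective (G := ↥(H ⊓ centralizer (zpowers y : Set ↥M)))
      (G' := ↥(alphaCore M ⊓ centralizer ({x} : Set G)))
      (f := (M.subtype.comp (Subgroup.subtype _)).codRestrict _ hmem)
      fun a b e => Subtype.ext (Subtype.ext (congrArg Subtype.val e :))
  have hpl := h44 ↥M (odd_card_subgroup hG M) H K (zpowers y) hHall hKc hyK
    (by rw [Nat.card_zpowers, hyo]; exact hq) hZ p
  have hHc : H ≤ commutator ↥M := by
    intro a ha
    obtain ⟨b, hb, e⟩ : (a : G) ∈ (commutator ↥M).map M.subtype := by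
      rw [map_subtype_commutator]
      exact alphaCore_le_commutator hG hU h50 h51 hM (mem_map_of_mem M.subtype ha)
    exact M.subtype_injective e ▸ hb
  rw [← ((Cfsg.Agent.S1459.result (G := ↥M)).1 H K inferInstance hHall hKc hHc).1] at hpl
  exact pLengthLE_one_of_normal H (not_dvd_index_alpha hG hU h50 h51 hM hp.out hpα) hpl

theorem pLengthLE_one_proper (p : ℕ) [Fact p.Prime] (H : Subgroup G) (hH : H ≠ ⊤) :
    PLengthLE p 1 H := by
  obtain ⟨M, hM, hle⟩ := exists_coatom_ge hH
  exact pLengthLE_one_subgroup hle (pLengthLE_one_coatom hG hU h50 h51 h44 hM p)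

end CfsgLib.OddLocal.Ten
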