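import Cfsg.Agent.Lib.OddLocal.Ten.Cores

/-!
`M_σ` is not trivial.
-/

set_option autoImplicit false

namespace CfsgLib.OddLocal.Ten

open Cfsg Subgroup
open scoped Pointwise

universe u

variable {G : Type u} [Group G] [Finite G] {M : Subgroup G}

/-- A group of rank at most two has a normal Sylow subgroup for its largest prime, which is in `σ`. -/
theorem sigma_nonempty_of_rankLE (hG : IsMinSimpleOddOrder G) (h50 : RankTwoHyp.{u}) (hM : IsCoatom M)
    (hr : ∀ p : ℕ, p.Prime → PRankLE p 2 M) : ∃ q, q ∈ sigma M := by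
  have hne : (Nat.card M).primeFactors.Nonempty :=
    Nat.nonempty_primeFactors.2 ((one_lt_card_iff_ne_bot M).2 (coatom_ne_bot hG hM))
  set q := (Nat.card M).primeFactors.max' hne with hq
  have hqm := Finset.max'_mem _ hne
  have hqp : q.Prime := Nat.prime_of_mem_primeFactors hqm
  have : Fact q.Prime := ⟨hqp⟩
  have hqd : q ∣ Nat.card M := Nat.dvd_of_mem_primeFactors hqm
  have : Group.IsSolvable M := isSolvable_of_ne_top hG hM.1
  set ps := {p : ℕ | p.Prime ∧ p ∣ Nat.card M ∧ p ≠ q}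
  set I : Subgroup M := ⨅ p : ps, pPrimeCore (p : ℕ) M with hI
  have hIn : I.Normal := normal_iInf_normal fun p => Subgroup.sSup_normal _ fun _ h => h.1
  have S := (default : Sylow q M)
  have hSI : (S : Subgroup M) ≤ I := le_iInf fun p => by
    have : Fact (p : ℕ).Prime := ⟨p.2.1⟩
    have hlt : (p : ℕ) < q := lt_of_le_of_ne
      (Finset.le_max' _ _ (Nat.mem_primeFactors.2 ⟨p.2.1, p.2.2.1, Nat.card_pos.ne'⟩)) p.2.2.2
    refine SylIn.le_of_normal_hall S.isPGroup' le_top
      (normalizer_eq_top_iff.2 (Subgroup.sSup_normal _ fun _ h => h.1)).ge ?_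
    rw [relIndex_top_right]
    exact fun h => ((h50 M (odd_card_subgroup hG M) p p.2.2.1 (hr p p.2.1)).1 q hqp h).not_gt hlt
  have hIp : IsPGroup q I := by
    refine IsPGroup.of_card (Nat.eq_prime_pow_of_unique_prime_dvd Nat.card_pos.ne' fun {r} hr' hd => ?_)
    by_contra hne'
    have : Fact r.Prime := ⟨hr'⟩
    exact CfsgLib.Cores.not_dvd_card_pPrimeCore (G := ↥M) r (hd.trans (card_dvd_of_le
      (iInf_le (fun p : ps => pPrimeCore (p : ℕ) ↥M) ⟨r, hr', hd.trans (card_subgroup_dvd_card I), hne'⟩)))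
  have hSn : ((S : Subgroup M)).Normal := by rwa [← S.3 hIp hSI]
  refine ⟨q, mem_sigma_of_normalizer_le hqd (sylIn_map S) ?_⟩
  have hne' : (S : Subgroup M).map M.subtype ≠ ⊥ := by
    rw [Ne, Subgroup.map_eq_bot_iff, M.ker_subtype, le_bot_iff]
    intro e
    have h1 := S.not_dvd_index
    rw [e, index_bot] at h1
    exact h1 hqd
  have hMle : M ≤ normalizer ((S : Subgroup M).map M.subtype : Set G) := by
    have h := le_normalizer_map M.subtype (H := (S : Subgroup M))
    rwa [normalizer_eq_top_iff.2 hSn, ← MonoidHom.range_eq_map, range_subtype] at h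
  by_contra hle
  exact normalizer_ne_top hG hne' (fun e => hM.1 (top_le_iff.1 (e.ge.trans (map_subtype_le _))))
    (hM.2 _ (lt_of_le_not_ge hMle hle))

variable (hG : IsMinSimpleOddOrder G) (hU : UniqHyp G) (h50 : RankTwoHyp.{u}) (h51 : DerivedNilHyp.{u})
include hG hU h50 h51

theorem sigmaCore_ne_bot (hM : IsCoatom M) : sigmaCore M ≠ ⊥ := by
  obtain ⟨q, hq⟩ : ∃ q, q ∈ sigma M := by
    by_cases hr : ∀ p : ℕ, p.Prime → PRankLE p 2 M
    · exact sigma_nonempty_of_rankLE hG h50 hM hr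
    · push Not at hr
      obtain ⟨p, hp, h⟩ := hr
      exact ⟨p, alpha_subset_sigma hG hU hM ⟨hp, h⟩⟩
  intro e
  have h1 := (isPiHallOf_sigmaCore hG hU h50 h51 hM).2.2 q hq.1 hq
  rw [e, relIndex_bot_left] at h1
  exact h1 hq.2.1

end CfsgLib.OddLocal.Ten
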