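import Cfsg.Agent.Lib.OddLocal.BGHyp
import Cfsg.Agent.Lib.OddLocal.Ten.PLengthOne
import Cfsg.Agent.Lib.OddLocal.Ten.SylowFusion
import Cfsg.Agent.Lib.OddLocal.Ten.Beta
import Cfsg.Agent.Lib.OddLocal.Ten.SigmaNeBot

/-!
The statements of the section on maximal subgroups, assembled, and the bundle for the sequel.
-/

set_option autoImplicit false

namespace CfsgLib.OddLocal.Ten

open Cfsg Subgroup CfsgLib.Solvable
open scoped Pointwise

universe u

variable {G : Type u} [Group G] [Finite G]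
  (hG : IsMinSimpleOddOrder G) (hU : UniqHyp G) (h50 : RankTwoHyp.{u}) (h51 : DerivedNilHyp.{u})
include hG hU h50

theorem sigma_prime_subgroup_conjugation {M : Subgroup G} (hM : IsCoatom M) {p : ℕ} [Fact p.Prime]
    (hp : p ∈ sigma M) {X : Subgroup G} (hXp : IsPGroup p X) (hX1 : X ≠ ⊥) (hXM : X ≤ M) :
    (∀ g : G, X.map (MulAut.conj g).toMonoidHom ≤ M →
        ∃ m ∈ M, ∃ c ∈ centralizer (X : Set G), g = m * c) ∧
      normalizer (X : Set G) = (M ⊓ normalizer (X : Set G)) ⊔ centralizer (X : Set G) := by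
  refine ⟨fun g hg => exists_factor hG hU h50 hM hp hXp hX1 hXM hg, le_antisymm (fun g hg => ?_)
    (sup_le inf_le_right (centralizer_le_normalizer _))⟩
  obtain ⟨m, hm, c, hc, rfl⟩ := exists_factor hG hU h50 hM hp hXp hX1 hXM
    (g := g) ((conj_smul_self_of_mem_normalizer hg).le.trans hXM)
  refine mul_mem_sup ⟨hm, ?_⟩ hc
  have := mul_mem hg (inv_mem (centralizer_le_normalizer _ hc))
  rwa [mul_inv_cancel_right] at this

include h51

theorem alpha_core_hall {M : Subgroup G} (hM : IsCoatom M) :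
    IsPiHallOf (alpha M) (alphaCore M) M ∧ IsPiHall (alpha M) (alphaCore M) ∧
      alphaCore M ≤ sigmaCore M ∧ RankLE 2 (↥M ⧸ piCore (alpha M) ↥M) ∧
      Group.IsNilpotent ↥((commutator ↥M).map (QuotientGroup.mk' (piCore (alpha M) ↥M))) := by
  refine ⟨isPiHallOf_alphaCore hG hU h50 h51 hM, isPiHall_alphaCore hG hU h50 h51 hM,
    alphaCore_le_sigmaCore hG hU hM, rankLE_quotient_alpha hG hU h50 h51 hM, ?_⟩
  rw [_root_.commutator_def, map_commutator, map_top_of_surjective _ (QuotientGroup.mk'_surjective _),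
    ← _root_.commutator_def]
  exact isNilpotent_commutator_quotient hG h51 hM

variable (h44 : CommPLengthHyp.{u}) (h48 : RankTwoActHyp G) (h55 : NarrowHyp.{u})
include h44 h48 h55

/-- The bundle used by the sections that follow. -/
theorem ten : CfsgLib.OddLocal.BG.Ten G where
  minimal := hG
  uniq := hU
  fusion M hM p hp hσ X hXp hX1 hXM :=
    have : Fact p.Prime := ⟨hp⟩
    sigma_prime_subgroup_conjugation hG hU h50 hM hσ hXp hX1 hXM
  alphaHall M hM := alpha_core_hall hG hU h50 h51 hM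
  sigmaHall M hM := ⟨isPiHallOf_sigmaCore hG hU h50 h51 hM, isPiHall_sigmaCore hG hU h50 h51 hM⟩
  sigma_le_derived M hM := sigmaCore_le_commutator hG hU h50 h51 hM
  sigma_ne_bot M hM := sigmaCore_ne_bot hG hU h50 h51 hM
  cent_alpha_uniq M hM X h1 h2 h3 := inUniqueMaximal_centralizer hG hU h50 h51 hM h1 h2 h3
  rank_two M hM p hp _ h2 h1 :=
    have : Fact p.Prime := ⟨hp⟩
    nonsigma_rank_two hG hU hM h2 h1
  normalizer_le M hM p hp hσ X hX hN :=
    have : Fact p.Prime := ⟨hp⟩
    nonsigma_order_p hG hU hM hσ hX hN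
  plength p hp H hH :=
    have : Fact p.Prime := ⟨hp⟩
    pLengthLE_one_proper hG hU h50 h51 h44 p H hH
  focal p hp P V hV :=
    have : Fact p.Prime := ⟨hp⟩
    sylow_eq_commutator hG hU h50 (fun q _ H hH => pLengthLE_one_proper hG hU h50 h51 h44 q H hH) P V hV
  sylow_rank_two p hp P hr :=
    have : Fact p.Prime := ⟨hp⟩
    sylow_rank_two hG hU h50 (fun q _ H hH => pLengthLE_one_proper hG hU h50 h51 h44 q H hH) P h48 hr
  betaHall M hM :=
    beta_core_and_complements hG hU h50 h51 h55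
      (fun q _ H hH => pLengthLE_one_proper hG hU h50 h51 h44 q H hH) hM

end CfsgLib.OddLocal.Ten
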