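import Cfsg.Agent.Lib.OddLocal.Ten.Cores
import Cfsg.Agent.Lib.OddLocal.Ten.RankOne
import Cfsg.Agent.Lib.Solvable.CoprimeAction
import Cfsg.Agent.S1443

/-!
Centralisers in a maximal subgroup of elements outside `α(M)`, and primes outside `σ(M)`.
-/

set_option autoImplicit false

namespace CfsgLib.OddLocal.Ten

open Cfsg Subgroup CfsgLib.Solvable
open scoped Pointwise

universe u

variable {G : Type u} [Group G] [Finite G] {M : Subgroup G}
  (hG : IsMinSimpleOddOrder G) (hU : UniqHyp G) (h50 : RankTwoHyp.{u}) (h51 : DerivedNilHyp.{u})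
include hG hU h50 h51

/-- Rank two in `C_{M_α}(X)` makes `C_M(X)` a uniqueness subgroup. -/
theorem inUniqueMaximal_centralizer (hM : IsCoatom M) {X : Subgroup G} (hXM : X ≤ M)
    (hXα : ∀ p : ℕ, p.Prime → p ∣ Nat.card X → p ∉ alpha M)
    (hr : ¬ RankLE 1 ↥(alphaCore M ⊓ centralizer (X : Set G))) :
    InUniqueMaximal (M ⊓ centralizer (X : Set G)) := by
  obtain ⟨p, hp, A, hA, hAe, hAc⟩ := exists_elemAb_of_not_rankLE hr
  have : Fact p.Prime := ⟨hp⟩
  have hAα : A ≤ alphaCore M := hA.trans inf_le_left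
  have hAM : A ≤ M := hAα.trans (alphaCore_le M)
  have hpd : p ∣ Nat.card A := hAc ▸ dvd_pow_self p (by norm_num)
  have hpα : p ∈ alpha M := prime_mem_piCoreOf hp (hpd.trans (card_dvd_of_le hAα))
  set C := M ⊓ centralizer (X : Set G) with hC
  have hAC : A ≤ C := le_inf hAM (hA.trans inf_le_right)
  have hCtop : C ≠ ⊤ := fun h => hM.1 (top_le_iff.1 (h.ge.trans inf_le_left))
  have hXA : X ≤ normalizer (A : Set G) :=
    (le_centralizer_iff.1 (hA.trans inf_le_right)).trans (centralizer_le_normalizer _)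
  have hcop : (Nat.card X).Coprime (Nat.card (alphaCore M)) :=
    Nat.coprime_of_dvd fun r hr h1 h2 => hXα r hr h1 (prime_mem_piCoreOf hr h2)
  obtain ⟨S, hAS, hXS⟩ := exists_invariant_sylow_ge (A := X) (K := alphaCore M)
    (hXM.trans (le_normalizer_piCoreOf _ M)) hcop
    (Or.inr (isSolvable_of_ne_top hG fun h => hM.1 (top_le_iff.1 (h.ge.trans (alphaCore_le M))))) p
    hAα (CfsgLib.PGroup.elemAb_isPGroup hAe) hXA
  set P := (S : Subgroup (alphaCore M)).map (alphaCore M).subtype with hP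
  have hPM : SylIn p P M := by
    refine ⟨(map_subtype_le _).trans (alphaCore_le M), S.isPGroup'.map _, fun hd => ?_⟩
    rw [← relIndex_mul_relIndex P (alphaCore M) M (map_subtype_le _) (alphaCore_le M)] at hd
    exact (hp.dvd_mul.1 hd).elim (sylIn_map S).2.2
      ((isPiHallOf_alphaCore hG hU h50 h51 hM).2.2 p hp hpα)
  obtain ⟨B, hBP, hBe, hBc⟩ := hPM.exists_elemAb hpα.2
  by_cases hcase : ∃ v ∈ P ⊓ centralizer (A : Set G), orderOf v = p ∧ v ∉ A
  · obtain ⟨v, ⟨hvP, hvA⟩, hvo, hvnA⟩ := hcase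
    have hBA : IsElementaryAbelian p (A ⊔ zpowers v) := CfsgLib.PGroup.elemAb_sup hAe
      (CfsgLib.PGroup.elemAb_zpowers (hvo ▸ pow_orderOf_eq_one v)) (fun a ha b hb =>
        (mem_centralizer_iff.1 ((zpowers_le.2 hvA) hb) a ha))
    have hlt : A < A ⊔ zpowers v :=
      lt_of_le_of_ne le_sup_left fun e => hvnA (e ▸ mem_sup_right (mem_zpowers v))
    have hle : A ⊔ zpowers v ≤ centralizer (A : Set G) :=
      sup_le (fun a ha => mem_centralizer_iff.2 fun b hb => CfsgLib.PGroup.elemAb_comm hAe hb ha)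
        (zpowers_le.2 hvA)
    obtain ⟨n, hn⟩ := (CfsgLib.PGroup.elemAb_isPGroup hBA).exists_card_eq
    have hn3 : 2 < n := by
      refine (Nat.pow_lt_pow_iff_right hp.one_lt).1 ?_
      rw [← hn, ← (show Nat.card A = p ^ 2 from hAc)]
      exact lt_of_le_of_ne (card_le_of_le hlt.le)
        fun e => hlt.ne (eq_of_le_of_card_ge hlt.le e.ge)
    have huA : InUniqueMaximal A := hU A (fun h => hM.1 (top_le_iff.1 (h.ge.trans hAM)))
      (not_rankLE_of_elemAb le_rfl hAe hAc (by norm_num))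
      (Or.inr (not_rankLE_of_elemAb hle hBA hn hn3))
    exact ⟨M, ⟨hM, inf_le_left⟩, fun L hL => InUniqueMaximal.eq_of_le huA hL.1 hM (hAC.trans hL.2) hAM⟩
  · push Not at hcase
    have hXP : X ≤ centralizer (P : Set G) :=
      Cfsg.Agent.S1443.result p (ne_two_of_dvd hG hpd) P A X hPM.2.1 hAS hAe hXS
        ((hp.coprime_iff_not_dvd.2 fun h => hXα p hp h hpα).symm) fun v hv hvo =>
          le_centralizer_iff.1 ((zpowers_le.2 (hcase v hv hvo)).trans (hA.trans inf_le_right)) |>.trans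
            (centralizer_le (Set.singleton_subset_iff.2 (mem_zpowers v)))
    exact inUniqueMaximal_of_elemAb hU hCtop (hBP.trans (le_inf hPM.1 (le_centralizer_iff.1 hXP))) hBe hBc

/-- For `p ∉ σ(M)` some central element of order `p` of a Sylow subgroup has small centraliser in `M_α`. -/
theorem exists_central_not_unique (hM : IsCoatom M) {p : ℕ} [hp : Fact p.Prime] (hpM : p ∣ Nat.card M)
    (hpσ : p ∉ sigma M) (P : Sylow p M) :
    ∃ x : G, x ∈ ((center ↥(P : Subgroup M)).map (P : Subgroup M).subtype).map M.subtype ∧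
      orderOf x = p ∧ IsZGroup ↥(alphaCore M ⊓ centralizer ({x} : Set G)) ∧
      ¬ (centralizer ({x} : Set G) ≤ M ∧
        ∀ L : Subgroup G, IsCoatom L → centralizer ({x} : Set G) ≤ L → L = M) := by
  have hsyl := sylIn_map P
  set Z := ((center ↥(P : Subgroup M)).map (P : Subgroup M).subtype).map M.subtype with hZ
  suffices h : ∃ x ∈ Z, orderOf x = p ∧ ¬ (centralizer ({x} : Set G) ≤ M ∧
      ∀ L : Subgroup G, IsCoatom L → centralizer ({x} : Set G) ≤ L → L = M) by
    obtain ⟨x, hxZ, hxo, hx⟩ := h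
    refine ⟨x, hxZ, hxo, isZGroup_of_rankLE_one (odd_card_subgroup hG _) ?_, hx⟩
    by_contra hr
    have hxM : x ∈ M := map_subtype_le _ hxZ
    have hu := inUniqueMaximal_centralizer hG hU h50 h51 hM (X := zpowers x) (zpowers_le.2 hxM)
      (fun r hr hd => by
        rw [Nat.card_zpowers, hxo, Nat.prime_dvd_prime_iff_eq hr hp.out] at hd
        subst hd
        exact fun h => hpσ (alpha_subset_sigma hG hU hM h))
      (by rwa [zpowers_eq_closure, centralizer_closure])
    rw [zpowers_eq_closure, centralizer_closure] at hu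
    have hCtop : centralizer ({x} : Set G) ≠ ⊤ := by
      rw [← centralizer_closure, ← zpowers_eq_closure]
      exact centralizer_ne_top hG (zpowers_ne_bot.2 fun h => by
        rw [h, orderOf_one] at hxo; exact hp.out.ne_one hxo.symm)
    exact hx ⟨InUniqueMaximal.le_of_le hu hM inf_le_left hCtop inf_le_right, fun L hL hle =>
      InUniqueMaximal.eq_of_le hu hL hM (inf_le_right.trans hle) inf_le_left⟩
  by_contra hcon
  push Not at hcon
  refine hpσ (mem_sigma_of_normalizer_le hpM hsyl fun n hn => ?_)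
  -- an element of order `p` in the centre
  have : Nontrivial ↥(P : Subgroup M) := by
    rw [nontrivial_iff_ne_bot]
    intro e
    have h1 := P.not_dvd_index
    rw [e, index_bot] at h1
    exact h1 hpM
  have := P.isPGroup'.center_nontrivial
  obtain ⟨z, hz, hzo⟩ := CfsgLib.PGroup.exists_orderOf_eq P.isPGroup'
    (H := center ↥(P : Subgroup M)) ((center ↥(P : Subgroup M)).nontrivial_iff_ne_bot.1 this)
  set x : G := ((z : M) : G) with hx
  have hxZ : x ∈ Z := mem_map_of_mem _ (mem_map_of_mem _ hz)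
  have hxo : orderOf x = p := by rw [hx, Subgroup.orderOf_coe, Subgroup.orderOf_coe, hzo]
  have hxn : n * x * n⁻¹ ∈ Z := by
    have hnorm := mem_normalizer_iff.1 hn
    obtain ⟨w, hw, hwe⟩ := (hnorm x).1 ⟨z, z.2, rfl⟩
    refine ⟨w, ⟨⟨w, hw⟩, mem_center_iff.2 fun y => ?_, rfl⟩, hwe⟩
    have hy : n⁻¹ * ((y : M) : G) * n ∈ (P : Subgroup M).map M.subtype := by
      rw [hnorm]
      simpa [mul_assoc] using (show ((y : M) : G) ∈ (P : Subgroup M).map M.subtype from ⟨y, y.2, rfl⟩)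
    obtain ⟨v, hv, hve⟩ := hy
    have hc : (v : G) * x = x * v :=
      congrArg (fun t : ↥(P : Subgroup M) => ((t : M) : G)) (mem_center_iff.1 hz ⟨v, hv⟩)
    refine Subtype.ext (Subtype.ext ?_)
    show ((y : M) : G) * (w : G) = (w : G) * ((y : M) : G)
    change (w : G) = n * x * n⁻¹ at hwe
    rw [hwe, show ((y : M) : G) = n * (v : G) * n⁻¹ by
      rw [show (v : G) = n⁻¹ * ((y : M) : G) * n from hve]; group]
    calc n * (v : G) * n⁻¹ * (n * x * n⁻¹) = n * ((v : G) * x) * n⁻¹ := by group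
      _ = n * (x * (v : G)) * n⁻¹ := by rw [hc]
      _ = n * x * n⁻¹ * (n * (v : G) * n⁻¹) := by group
  have hxno : orderOf (n * x * n⁻¹) = p := by
    rw [← hxo, ← MulAut.conj_apply, MulEquiv.orderOf_eq]
  obtain ⟨h1, h1'⟩ := hcon x hxZ hxo
  obtain ⟨h2, h2'⟩ := hcon _ hxn hxno
  refine mem_of_conj_smul_eq hG hM (h2' _ ((OrderIso.isCoatom_iff (MulEquiv.mapSubgroup (MulAut.conj n)) M).2 hM :) ?_)
  intro c hc
  refine mem_conj_smul_iff.2 (h1 (mem_centralizer_singleton_iff.2 ?_))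
  have e := mem_centralizer_singleton_iff.1 hc
  calc n⁻¹ * c * n * x = n⁻¹ * (c * (n * x * n⁻¹)) * n := by group
    _ = n⁻¹ * (n * x * n⁻¹ * c) * n := by rw [e]
    _ = x * (n⁻¹ * c * n) := by group

omit h50 h51 in
/-- For `p ∉ σ(M)` of rank two, the elementary subgroups of order `p ^ 2` are maximal. -/
theorem nonsigma_rank_two (hM : IsCoatom M) {p : ℕ} [Fact p.Prime]
    (hr2 : PRankLE p 2 M) (hr1 : ¬ PRankLE p 1 M) :
    ¬ IsIdealPrime p G ∧ ∀ A : Subgroup G, A ≤ M → IsElementaryAbelian p A → Nat.card A = p ^ 2 →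
        ∀ B : Subgroup G, IsElementaryAbelian p B → A ≤ B → B = A := by
  have key : ∀ A : Subgroup G, A ≤ M → IsElementaryAbelian p A → Nat.card A = p ^ 2 →
      ∀ B : Subgroup G, IsElementaryAbelian p B → A ≤ B → B = A := by
    intro A hAM hA hAc B hB hAB
    by_contra hne
    obtain ⟨n, hn⟩ := (CfsgLib.PGroup.elemAb_isPGroup hB).exists_card_eq
    have hn3 : 2 < n := by
      refine (Nat.pow_lt_pow_iff_right (Fact.out : p.Prime).one_lt).1 ?_
      rw [← hn, ← hAc]
      exact lt_of_le_of_ne (card_le_of_le hAB) fun e => hne (eq_of_le_of_card_ge hAB e.ge).symm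
    have hBC : B ≤ centralizer (A : Set G) := fun b hb =>
      mem_centralizer_iff.2 fun a ha => CfsgLib.PGroup.elemAb_comm hB (hAB ha) hb
    have hAne : A ≠ ⊥ := fun e => by
      rw [e, card_bot] at hAc
      exact (Nat.one_lt_pow (by norm_num) (Fact.out : p.Prime).one_lt).ne hAc
    have huA : InUniqueMaximal A := hU A (fun h => hM.1 (top_le_iff.1 (h.ge.trans hAM)))
      (not_rankLE_of_elemAb le_rfl hA hAc (by norm_num))
      (Or.inr (not_rankLE_of_elemAb hBC hB hn hn3))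
    have hCM : centralizer (A : Set G) ≤ M := InUniqueMaximal.le_of_le huA hM hAM
      (centralizer_ne_top hG hAne) fun a ha =>
        mem_centralizer_iff.2 fun b hb => CfsgLib.PGroup.elemAb_comm hA hb ha
    exact not_pRankLE_of_elemAb (hBC.trans hCM) hB hn hn3 hr2
  refine ⟨fun hid => ?_, key⟩
  obtain ⟨A, hAM, hA, hAc⟩ := exists_elemAb_of_not_pRankLE hr1
  obtain ⟨P, hAP⟩ := (CfsgLib.PGroup.elemAb_isPGroup hA).exists_le_sylow
  obtain ⟨B, -, hB, hlt⟩ := hid.2.2 P A hAP hA hAc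
  exact hlt.ne' (key A hAM hA hAc B hB hlt.le)

omit h50 h51 in
/-- An element subgroup of order `p ∉ σ(M)` whose normalizer lies in `M`. -/
theorem nonsigma_order_p (hM : IsCoatom M) {p : ℕ} [hp : Fact p.Prime] (hpσ : p ∉ sigma M)
    {X : Subgroup G} (hX : Nat.card X = p) (hNX : normalizer (X : Set G) ≤ M) :
    (PRankLE p 2 M ∧ ¬ PRankLE p 1 M) ∧ ¬ IsIdealPrime p G ∧
      ∃ A : Subgroup G, IsElementaryAbelian p A ∧ Nat.card A = p ^ 2 ∧ X ≤ A := by
  have hXM : X ≤ M := le_normalizer.trans hNX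
  have hXp : IsPGroup p X := IsPGroup.of_card (n := 1) (by rw [hX, pow_one])
  have hdM : p ∣ Nat.card M := hX ▸ card_dvd_of_le hXM
  obtain ⟨P, hP, hXP⟩ := exists_sylIn_ge hXp hXM
  have hr2 : PRankLE p 2 M := by
    by_contra h
    exact hpσ (alpha_subset_sigma hG hU hM ⟨hp.out, h⟩)
  have hr1 : ¬ PRankLE p 1 M := by
    intro hr
    refine hpσ (mem_sigma_of_normalizer_le hdM hP (le_trans (fun n hn => ?_) hNX))
    refine mem_normalizer_iff_conj_smul.2 ?_
    have hle : MulAut.conj n • X ≤ P := by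
      have := conj_smul_mono n hXP
      rwa [conj_smul_self_of_mem_normalizer hn] at this
    have hrP : PRankLE p 1 P := (CfsgLib.PGroup.pRankLE_subgroup_iff P).2 fun A hA hAe =>
      (CfsgLib.PGroup.pRankLE_subgroup_iff M).1 hr A (hA.trans hP.1) hAe
    have := isCyclic_of_pRankLE_one hP.2.1 (ne_two_of_dvd hG hdM) hrP
    have hcomm : ∀ a ∈ P, ∀ b ∈ P, a * b = b * a := fun a ha b hb =>
      congrArg Subtype.val (IsCyclic.isMulCommutative.is_comm.comm (⟨a, ha⟩ : P) ⟨b, hb⟩)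
    have hXe : IsElementaryAbelian p X := CfsgLib.PGroup.elemAb_of_card_eq hX
    have hS := CfsgLib.PGroup.elemAb_sup (CfsgLib.PGroup.elemAb_map hXe (MulAut.conj n).toMonoidHom) hXe
      (fun a ha b hb => hcomm a (hle ha) b (hXP hb))
    have hc := (CfsgLib.PGroup.pRankLE_subgroup_iff P).1 hrP _ (sup_le hle hXP) hS
    rw [pow_one] at hc
    exact (eq_of_le_of_card_ge le_sup_left (hc.trans (by rw [card_conj_smul, hX]))).trans
      (eq_of_le_of_card_ge le_sup_right (hc.trans hX.ge)).symm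
  refine ⟨⟨hr2, hr1⟩, (nonsigma_rank_two hG hU hM hr2 hr1).1, ?_⟩
  have hnt : Nontrivial P := by
    rw [nontrivial_iff_ne_bot]
    intro e
    rw [le_bot_iff.1 (hXP.trans e.le), card_bot] at hX
    exact hp.out.ne_one hX.symm
  have := hP.2.1.center_nontrivial
  obtain ⟨z, hz, hzo⟩ := CfsgLib.PGroup.exists_orderOf_eq hP.2.1
    (H := center P) ((center P).nontrivial_iff_ne_bot.1 this)
  have hzc : ∀ y ∈ P, y * (z : G) = z * y := fun y hy =>
    congrArg Subtype.val (mem_center_iff.1 hz ⟨y, hy⟩)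
  have hXe : IsElementaryAbelian p X := CfsgLib.PGroup.elemAb_of_card_eq hX
  have hpair : ∀ Y Z : Subgroup G, Y ≤ P → Z ≤ P → IsElementaryAbelian p Y → IsElementaryAbelian p Z →
      (∀ a ∈ Y, ∀ b ∈ Z, a * b = b * a) → ¬ Z ≤ Y → p * Nat.card Y ≤ Nat.card ↥(Y ⊔ Z) := by
    intro Y Z _ _ hY hZ hc hne
    have hS := CfsgLib.PGroup.elemAb_sup hY hZ hc
    obtain ⟨a, ha⟩ := (CfsgLib.PGroup.elemAb_isPGroup hY).exists_card_eq
    obtain ⟨b, hb⟩ := (CfsgLib.PGroup.elemAb_isPGroup hS).exists_card_eq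
    rw [ha, hb, ← pow_succ']
    refine Nat.pow_le_pow_right hp.out.pos ((Nat.pow_lt_pow_iff_right hp.out.one_lt).1 ?_)
    rw [← ha, ← hb]
    exact lt_of_le_of_ne (card_le_of_le le_sup_left)
      fun e => hne (le_sup_right.trans (eq_of_le_of_card_ge le_sup_left e.ge).ge)
  obtain ⟨A₀, hA₀P, hA₀, hA₀c⟩ := hP.exists_elemAb hr1
  by_cases hzX : (z : G) ∈ X
  · refine ⟨A₀, hA₀, hA₀c, ?_⟩
    by_contra hne
    have hXcomm : ∀ b ∈ A₀, ∀ a ∈ X, b * a = a * b := fun b hb a ha => by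
      have hgen : X = zpowers (z : G) := (eq_of_le_of_card_ge (zpowers_le.2 hzX)
        (by rw [Nat.card_zpowers, Subgroup.orderOf_coe, hzo, hX])).symm
      obtain ⟨i, rfl⟩ := mem_zpowers_iff.1 (hgen ▸ ha)
      exact (Commute.zpow_right (hzc b (hA₀P hb)) i).eq
    have h1 := hpair A₀ X hA₀P hXP hA₀ hXe hXcomm hne
    have h2 := (CfsgLib.PGroup.pRankLE_subgroup_iff M).1 hr2 _ (sup_le (hA₀P.trans hP.1) hXM)
      (CfsgLib.PGroup.elemAb_sup hA₀ hXe hXcomm)
    rw [hA₀c] at h1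
    exact ((lt_mul_iff_one_lt_left (pow_pos hp.out.pos 2)).2 hp.out.one_lt).not_ge (h1.trans h2)
  · have hZe : IsElementaryAbelian p (zpowers (z : G)) :=
      CfsgLib.PGroup.elemAb_zpowers (by
        rw [← hzo, ← Subgroup.orderOf_coe]; exact pow_orderOf_eq_one _)
    have hcm : ∀ a ∈ X, ∀ b ∈ zpowers (z : G), a * b = b * a := fun a ha b hb => by
      obtain ⟨i, rfl⟩ := mem_zpowers_iff.1 hb
      exact (Commute.zpow_right (hzc a (hXP ha)) i).eq
    have hS := CfsgLib.PGroup.elemAb_sup hXe hZe hcm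
    refine ⟨_, hS, le_antisymm ((CfsgLib.PGroup.pRankLE_subgroup_iff M).1 hr2 _
      (sup_le hXM (zpowers_le.2 (hP.1 z.2))) hS) ?_, le_sup_left⟩
    have h1 := hpair X _ hXP (zpowers_le.2 z.2) hXe hZe hcm fun h => hzX (h (mem_zpowers _))
    rwa [hX, ← pow_two] at h1

end CfsgLib.OddLocal.Ten
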