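import Cfsg.Agent.Lib.OddLocal.Ten.Quotient
import Cfsg.Agent.Lib.OddLocal.Ten.Transitive

/-!
`M_α` and `M_σ` are Hall subgroups of `M` and of `G`, both inside `M'`, and the derived group of
`M / M_α` is nilpotent.
-/

set_option autoImplicit false

namespace CfsgLib.OddLocal.Ten

open Cfsg Subgroup CfsgLib.Solvable
open scoped Pointwise

universe u

variable {G : Type u} [Group G] [Finite G] {M : Subgroup G}

theorem index_piCore_quotient {π : Set ℕ} {r : ℕ} (hrπ : r ∈ π)
    {X : Subgroup (↥M ⧸ piCore π ↥M)} [X.Normal]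
    (hX : ∀ q : ℕ, q.Prime → q ∣ Nat.card X → q = r) : X = ⊥ := by
  set π' := QuotientGroup.mk' (piCore π ↥M)
  have hle : X.comap π' ≤ piCore π ↥M := by
    refine le_piCore fun q hq hd => ?_
    have hN : piCore π ↥M ≤ X.comap π' := by
      intro x hx
      have h1 : π' x = 1 := (QuotientGroup.eq_one_iff x).2 hx
      exact (show π' x ∈ X from h1 ▸ one_mem _)
    have hc : Nat.card (piCore π ↥M) * (piCore π ↥M).relIndex (X.comap π') = Nat.card (X.comap π') := by
      rw [← relIndex_bot_left, ← relIndex_bot_left, relIndex_mul_relIndex ⊥ _ _ bot_le hN]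
    rw [← hc] at hd
    rcases hq.dvd_mul.1 hd with h | h
    · exact prime_mem_piCore hq h
    · rw [CfsgLib.PGroup.relIndex_eq_card_map,
        map_comap_eq_self_of_surjective (QuotientGroup.mk'_surjective _)] at h
      exact hX q hq h ▸ hrπ
  rw [eq_bot_iff]
  intro x hx
  obtain ⟨y, rfl⟩ := QuotientGroup.mk'_surjective _ x
  exact mem_bot.2 ((QuotientGroup.eq_one_iff y).2 (hle hx))

theorem pCore_quotient_alpha_eq_bot {q : ℕ} [Fact q.Prime] (hq : q ∈ alpha M) :
    pCore q (↥M ⧸ piCore (alpha M) ↥M) = ⊥ := by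
  have : (pCore q (↥M ⧸ piCore (alpha M) ↥M)).Normal := Subgroup.sSup_normal _ fun _ h => h.1
  refine index_piCore_quotient hq fun r hr hd => ?_
  obtain ⟨n, hn⟩ := (CfsgLib.Cores.isPGroup_pCore (G := ↥M ⧸ piCore (alpha M) ↥M) q).exists_card_eq
  exact (Nat.prime_dvd_prime_iff_eq hr Fact.out).1 (hr.dvd_of_dvd_pow (hn ▸ hd))

omit [Finite G] in
theorem pRankLE_two_of_not_alpha {q : ℕ} (hq : q.Prime) (hqa : q ∉ alpha M) : PRankLE q 2 M := by
  by_contra h
  exact hqa ⟨hq, h⟩

theorem rankLE_fitting_quotient_alpha :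
    RankLE 2 ↥(fittingSubgroup (↥M ⧸ piCore (alpha M) ↥M)) := by
  intro q hq
  have : Fact q.Prime := ⟨hq⟩
  by_cases hqa : q ∈ alpha M
  · refine CfsgLib.PGroup.pRankLE_iff.2 fun A hA => ?_
    have : (fittingSubgroup (↥M ⧸ piCore (alpha M) ↥M)).Normal := CfsgLib.Cores.fittingSubgroup_normal
    have hp' := (CfsgLib.PGroup.elemAb_isPGroup hA).map
      (fittingSubgroup (↥M ⧸ piCore (alpha M) ↥M)).subtype
    have h1 := le_pCore_of_le_nilpotent (CfsgLib.Cores.isNilpotent_fittingSubgroup (G := ↥M ⧸ piCore (alpha M) ↥M))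
      hp' (map_subtype_le _)
    rw [pCore_quotient_alpha_eq_bot hqa] at h1
    rw [← card_map_of_injective (fittingSubgroup (↥M ⧸ piCore (alpha M) ↥M)).subtype_injective,
      le_bot_iff.1 h1, card_bot]
    exact Nat.one_le_pow _ _ hq.pos
  · exact CfsgLib.PGroup.pRankLE_subgroup (pRankLE_quotient _ (fun h => hqa (prime_mem_piCore hq h))
      (pRankLE_two_of_not_alpha hq hqa)) _

variable (hG : IsMinSimpleOddOrder G) (hU : UniqHyp G) (h50 : RankTwoHyp.{u}) (h51 : DerivedNilHyp.{u})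
include hG h51

/-- The derived group of `M / M_α` is nilpotent. -/
theorem isNilpotent_commutator_quotient (hM : IsCoatom M) :
    Group.IsNilpotent ↥(commutator (↥M ⧸ piCore (alpha M) ↥M)) := by
  have : Group.IsSolvable M := isSolvable_of_ne_top hG hM.1
  have hodd : Odd (Nat.card (↥M ⧸ piCore (alpha M) ↥M)) :=
    (odd_card_subgroup hG M).of_dvd_nat (card_quotient_dvd_card _)
  exact h51 _ hodd rankLE_fitting_quotient_alpha

include hU h50

/-- A Sylow subgroup of `M` for a prime in `σ(M)` maps into `O_q` of `M / M_α`. -/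
theorem map_sylow_le_pCore (hM : IsCoatom M) {q : ℕ} [Fact q.Prime] (hq : q ∈ sigma M) (S : Sylow q M) :
    (S : Subgroup M).map (QuotientGroup.mk' (piCore (alpha M) ↥M)) ≤
      pCore q (↥M ⧸ piCore (alpha M) ↥M) := by
  refine le_pCore_of_le_nilpotent (K := commutator (↥M ⧸ piCore (alpha M) ↥M))
    (isNilpotent_commutator_quotient hG h51 hM) (S.isPGroup'.map _) ?_
  rw [commutator_def, ← map_top_of_surjective _ (QuotientGroup.mk'_surjective (piCore (alpha M) ↥M)),
    ← map_commutator, ← commutator_def]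
  refine map_mono fun x hx => ?_
  have h1 := sylIn_le_commutator hG hU h50 hM hq (sylIn_map S) (mem_map_of_mem M.subtype hx)
  rw [← map_subtype_commutator] at h1
  obtain ⟨y, hy, e⟩ := h1
  exact M.subtype_injective e ▸ hy

theorem not_dvd_index_alpha (hM : IsCoatom M) {q : ℕ} (hq : q.Prime) (hqa : q ∈ alpha M) :
    ¬ q ∣ (piCore (alpha M) ↥M).index := by
  have : Fact q.Prime := ⟨hq⟩
  have S := (default : Sylow q M)
  have h1 := map_sylow_le_pCore hG hU h50 h51 hM (alpha_subset_sigma hG hU hM hqa) S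
  rw [pCore_quotient_alpha_eq_bot hqa, le_bot_iff, Subgroup.map_eq_bot_iff, QuotientGroup.ker_mk'] at h1
  exact fun hd => S.not_dvd_index (hd.trans (index_dvd_of_le h1))

theorem not_dvd_index_sigma (hM : IsCoatom M) {q : ℕ} (hq : q.Prime) (hqs : q ∈ sigma M) :
    ¬ q ∣ (piCore (sigma M) ↥M).index := by
  have : Fact q.Prime := ⟨hq⟩
  have S := (default : Sylow q M)
  set N := piCore (alpha M) ↥M
  set π := QuotientGroup.mk' N
  have hn : (pCore q (↥M ⧸ N)).Normal := Subgroup.sSup_normal _ fun _ h => h.1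
  have : ((pCore q (↥M ⧸ N)).comap π).Normal := Subgroup.Normal.comap hn π
  have hle : (pCore q (↥M ⧸ N)).comap π ≤ piCore (sigma M) ↥M := by
    refine le_piCore fun r hr hd => ?_
    have hN : N ≤ (pCore q (↥M ⧸ N)).comap π := by
      intro x hx
      have h1 : π x = 1 := (QuotientGroup.eq_one_iff x).2 hx
      exact (show π x ∈ pCore q (↥M ⧸ N) from h1 ▸ one_mem _)
    have hc : Nat.card N * N.relIndex ((pCore q (↥M ⧸ N)).comap π) =
        Nat.card ((pCore q (↥M ⧸ N)).comap π) := by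
      rw [← relIndex_bot_left, ← relIndex_bot_left, relIndex_mul_relIndex ⊥ _ _ bot_le hN]
    rw [← hc] at hd
    rcases hr.dvd_mul.1 hd with h | h
    · exact alpha_subset_sigma hG hU hM (prime_mem_piCore hr h)
    · rw [CfsgLib.PGroup.relIndex_eq_card_map,
        map_comap_eq_self_of_surjective (QuotientGroup.mk'_surjective _)] at h
      obtain ⟨n, hn⟩ := (CfsgLib.Cores.isPGroup_pCore (G := ↥M ⧸ N) q).exists_card_eq
      exact (Nat.prime_dvd_prime_iff_eq hr hq).1 (hr.dvd_of_dvd_pow (hn ▸ h)) ▸ hqs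
  exact fun hd => S.not_dvd_index (hd.trans (index_dvd_of_le
    ((map_le_iff_le_comap.1 (map_sylow_le_pCore hG hU h50 h51 hM hqs S)).trans hle)))

theorem isPiHallOf_alphaCore (hM : IsCoatom M) : IsPiHallOf (alpha M) (alphaCore M) M :=
  isPiHallOf_piCoreOf fun _ hr hra => not_dvd_index_alpha hG hU h50 h51 hM hr hra

theorem isPiHallOf_sigmaCore (hM : IsCoatom M) : IsPiHallOf (sigma M) (sigmaCore M) M :=
  isPiHallOf_piCoreOf fun _ hr hra => not_dvd_index_sigma hG hU h50 h51 hM hr hra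

theorem isPiHall_alphaCore (hM : IsCoatom M) : IsPiHall (alpha M) (alphaCore M) :=
  isPiHall_of_isPiHallOf (isPiHallOf_alphaCore hG hU h50 h51 hM) fun _ _ hra =>
    not_dvd_index_of_sigma (alpha_subset_sigma hG hU hM hra)

theorem isPiHall_sigmaCore (hM : IsCoatom M) : IsPiHall (sigma M) (sigmaCore M) :=
  isPiHall_of_isPiHallOf (isPiHallOf_sigmaCore hG hU h50 h51 hM) fun _ _ hra =>
    not_dvd_index_of_sigma hra

omit h50 h51 in
theorem alphaCore_le_sigmaCore (hM : IsCoatom M) : alphaCore M ≤ sigmaCore M :=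
  map_mono (piCore_mono (alpha_subset_sigma hG hU hM))

theorem rankLE_quotient_alpha (hM : IsCoatom M) : RankLE 2 (↥M ⧸ piCore (alpha M) ↥M) := by
  intro q hq
  have : Fact q.Prime := ⟨hq⟩
  by_cases hqa : q ∈ alpha M
  · refine CfsgLib.PGroup.pRankLE_iff.2 fun A hA => ?_
    obtain ⟨n, hn⟩ := (CfsgLib.PGroup.elemAb_isPGroup hA).exists_card_eq
    rcases n with _ | n
    · rw [hn, pow_zero]; exact Nat.one_le_pow _ _ hq.pos
    · exact absurd ((dvd_pow_self q n.succ_ne_zero).trans (hn ▸ card_subgroup_dvd_card A))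
        (fun h => not_dvd_index_alpha hG hU h50 h51 hM hq hqa h)
  · exact pRankLE_quotient _ (fun h => hqa (prime_mem_piCore hq h)) (pRankLE_two_of_not_alpha hq hqa)

/-- `M_σ` is contained in the derived group. -/
theorem sigmaCore_le_commutator (hM : IsCoatom M) : sigmaCore M ≤ ⁅M, M⁆ := by
  refine relIndex_eq_one.1 (Nat.eq_one_iff_not_exists_prime_dvd.2 fun q hq hd => ?_)
  have : Fact q.Prime := ⟨hq⟩
  have hqs : q ∈ sigma M := prime_mem_piCoreOf hq (hd.trans (relIndex_dvd_card _ _))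
  obtain ⟨P, hP⟩ := exists_sylIn (p := q) M
  have hPσ : P ≤ sigmaCore M := SylIn.le_of_normal_hall hP.2.1 hP.1 (le_normalizer_piCoreOf _ M)
    ((isPiHallOf_sigmaCore hG hU h50 h51 hM).2.2 q hq hqs)
  have h1 := (hP.of_le hPσ (sigmaCore_le M)).2.2
  exact h1 (hd.trans (relIndex_dvd_of_le_left _ (sylIn_le_commutator hG hU h50 hM hqs hP)))

theorem alphaCore_le_commutator (hM : IsCoatom M) : alphaCore M ≤ ⁅M, M⁆ :=
  (alphaCore_le_sigmaCore hG hU hM).trans (sigmaCore_le_commutator hG hU h50 h51 hM)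

end CfsgLib.OddLocal.Ten
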