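import Cfsg.Agent.Lib.OddLocal.Ten.SylowFusion
import Cfsg.Agent.Lib.OddLocal.Ten.Complement
import Cfsg.Agent.Lib.OddLocal.Basic
import Cfsg.Agent.Lib.FGS.ThompsonKernel
import Cfsg.Agent.Lib.PGroup.CoprimeHall
import Cfsg.Agent.Lib.Solvable.Fitting

/-!
The normalizer of a nilpotent Hall subgroup controls fusion in it.
-/

set_option autoImplicit false

namespace CfsgLib.OddLocal.Ten

open Cfsg Subgroup CfsgLib.Solvable
open scoped Pointwise

universe u

section Solvable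

variable {L : Type u} [Group L] [Finite L] [Group.IsSolvable L]

/-- A nilpotent Hall subgroup lies in every `O_{p',p}` for its primes, when the `p`-length is one. -/
theorem nilpotent_hall_le_pPrimePCore {H : Subgroup L} (hn : Group.IsNilpotent H)
    (hcop : (Nat.card H).Coprime H.index) {p : ℕ} [hp : Fact p.Prime] (hd : p ∣ Nat.card H)
    (hpl : PLengthLE p 1 L) : H ≤ pPrimePCore p L := by
  set N := pPrimeCore p L with hN
  set π := QuotientGroup.mk' N
  have hpn : (pCore p (L ⧸ N)).Normal := Subgroup.sSup_normal _ fun _ h => h.1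
  have hUn : (pPrimePCore p L).Normal := Subgroup.Normal.comap hpn _
  have hnU : ¬ p ∣ (pPrimePCore p L).index :=
    (CfsgLib.Cores.coprime_iff_not_dvd hp.out _).1 (index_pPrimePCore hpl)
  obtain ⟨P, hP⟩ := exists_sylIn (p := p) H
  have hPL : SylIn p P ⊤ := by
    refine hP.top_of_index ?_
    rw [← relIndex_mul_index hP.1]
    exact fun h => (hp.out.dvd_mul.1 h).elim hP.2.2
      (Nat.Prime.coprime_iff_not_dvd hp.out |>.1 (Nat.Coprime.coprime_dvd_left hd hcop))
  have hPU : P ≤ pPrimePCore p L := SylIn.le_of_normal_hall hP.2.1 le_top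
    (normalizer_eq_top_iff.2 hUn).ge (by rwa [relIndex_top_right])
  have hPπ : P.map π = pCore p (L ⧸ N) := by
    refine eq_of_le_of_card_ge (map_le_iff_le_comap.2 hPU) ?_
    obtain ⟨S, rfl⟩ := hPL.exists_sylow_top
    have hd' : Disjoint (S : Subgroup L) N := by
      refine disjoint_of_coprime_natCard ?_
      obtain ⟨n, hn⟩ := S.isPGroup'.exists_card_eq
      rw [hn]
      exact Nat.Coprime.pow_left _ (CfsgLib.Cores.coprime_card_pPrimeCore p).symm
    have hcard : Nat.card ((S : Subgroup L).map π) = Nat.card (S : Subgroup L) := by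
      have := relIndex_ker π (K := (S : Subgroup L))
      rw [QuotientGroup.ker_mk', ← inf_relIndex_right, inf_comm, disjoint_iff.1 hd', relIndex_bot_left] at this
      exact this.symm
    rw [hcard]
    obtain ⟨T, hT⟩ := (CfsgLib.Cores.isPGroup_pCore (G := L ⧸ N) p).exists_le_sylow
    refine (card_le_of_le hT).trans ?_
    rw [T.card_eq_multiplicity, S.card_eq_multiplicity]
    exact Nat.pow_le_pow_right hp.out.pos ((Nat.factorization_le_iff_dvd Nat.card_pos.ne'
      Nat.card_pos.ne').2 (card_quotient_dvd_card N) p)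
  intro h hh
  obtain ⟨a, b, rfl, ha, hb, ⟨k, hk⟩, hbc⟩ := CfsgLib.Cores.exists_pow_mul_pow p h
  have haH : a ∈ H := zpowers_le.2 hh ha
  have hbH : b ∈ H := zpowers_le.2 hh hb
  refine mul_mem ?_ ?_
  · exact SylIn.le_of_normal_hall (IsPGroup.of_card (n := k) (by rw [Nat.card_zpowers, hk])) le_top
      (normalizer_eq_top_iff.2 hUn).ge (by rwa [relIndex_top_right]) (mem_zpowers a)
  · show π b ∈ pCore p (L ⧸ N)
    refine CfsgLib.Solvable.centralizer_pCore_le p (CfsgLib.Cores.pPrimeCore_quotient_self p) ?_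
    rw [← hPπ]
    refine mem_centralizer_iff.2 ?_
    rintro _ ⟨y, hy, rfl⟩
    rw [← map_mul, ← map_mul, CfsgLib.OddLocal.commute_of_mem_nilpotent hn (hP.1 hy) hbH]
    obtain ⟨j, hj⟩ := IsPGroup.iff_orderOf.1 hP.2.1 ⟨y, hy⟩
    rw [Subgroup.orderOf_mk] at hj
    rw [hj]
    exact Nat.Coprime.pow_left j hbc.symm

/-- In a solvable group of `p`-length one the normalizer of a nilpotent Hall subgroup controls its
fusion. -/
theorem nilpotent_hall_fusion {H : Subgroup L} (hn : Group.IsNilpotent H)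
    (hcop : (Nat.card H).Coprime H.index) (hpl : ∀ (p : ℕ) [Fact p.Prime], PLengthLE p 1 L)
    {x g : L} (hx : x ∈ H) (hgx : g * x * g⁻¹ ∈ H) :
    ∃ n ∈ normalizer (H : Set L), n * x * n⁻¹ = g * x * g⁻¹ := by
  set ps := {p : ℕ | p.Prime ∧ p ∣ Nat.card H}
  set J : Subgroup L := ⨅ p : ps, pPrimePCore (p : ℕ) L with hJ
  set D : Subgroup L := ⨅ p : ps, pPrimeCore (p : ℕ) L with hD
  have hJn : J.Normal := normal_iInf_normal fun p => by
    have : Fact (p : ℕ).Prime := ⟨p.2.1⟩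
    have hpn : (pCore (p : ℕ) (L ⧸ pPrimeCore (p : ℕ) L)).Normal := Subgroup.sSup_normal _ fun _ h => h.1
    exact Subgroup.Normal.comap hpn _
  have hDn : D.Normal := normal_iInf_normal fun p => Subgroup.sSup_normal _ fun _ h => h.1
  have hHJ : H ≤ J := le_iInf fun p => by
    have : Fact (p : ℕ).Prime := ⟨p.2.1⟩
    exact nilpotent_hall_le_pPrimePCore hn hcop p.2.2 (hpl p)
  have hDJ : D ≤ J := iInf_mono fun p => by
    intro z hz
    have h1 : QuotientGroup.mk' (pPrimeCore (p : ℕ) L) z = 1 := (QuotientGroup.eq_one_iff z).2 hz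
    exact (show QuotientGroup.mk' (pPrimeCore (p : ℕ) L) z ∈ pCore (p : ℕ) _ from h1 ▸ one_mem _)
  have hDH : (Nat.card D).Coprime (Nat.card H) := Nat.coprime_of_dvd fun q hq h1 h2 => by
    have hle : D ≤ pPrimeCore q L := iInf_le (fun p : ps => pPrimeCore (p : ℕ) L) ⟨q, hq, h2⟩
    have := Nat.Coprime.coprime_dvd_left (h1.trans (card_dvd_of_le hle))
      (CfsgLib.Cores.coprime_card_pPrimeCore (G := L) q)
    rw [Nat.coprime_self] at this
    exact hq.ne_one this
  have hsup : D ⊔ H = J := by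
    refine le_antisymm (sup_le hDJ hHJ) (relIndex_eq_one.1 (Nat.eq_one_iff_not_exists_prime_dvd.2 ?_))
    intro q hq hd
    have : Fact q.Prime := ⟨hq⟩
    have h1 : q ∣ H.index := (hd.trans (relIndex_dvd_of_le_left J le_sup_right)).trans
      (relIndex_mul_index hHJ ▸ dvd_mul_right _ _)
    have hqH : ¬ q ∣ Nat.card H := fun h => hq.ne_one
      (Nat.eq_one_of_dvd_coprimes hcop h h1)
    obtain ⟨S, hS⟩ := exists_sylIn (p := q) J
    refine hS.2.2 (hd.trans (relIndex_dvd_of_le_left J (le_trans (le_iInf fun p => ?_) le_sup_left)))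
    have : Fact (p : ℕ).Prime := ⟨p.2.1⟩
    set N := pPrimeCore (p : ℕ) L
    refine SylIn.le_of_normal_hall hS.2.1 (hS.1.trans (iInf_le _ p))
      (le_top.trans (normalizer_eq_top_iff.2 (Subgroup.sSup_normal _ fun _ h => h.1)).ge) ?_
    intro h
    rw [CfsgLib.PGroup.relIndex_eq_card_map] at h
    unfold pPrimePCore at h
    rw [map_comap_eq_self_of_surjective (QuotientGroup.mk'_surjective _)] at h
    obtain ⟨k, hk⟩ := (CfsgLib.Cores.isPGroup_pCore (G := L ⧸ N) (p : ℕ)).exists_card_eq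
    exact hqH ((Nat.prime_dvd_prime_iff_eq hq p.2.1).1 (hq.dvd_of_dvd_pow (hk ▸ h)) ▸ p.2.2)
  have hHallJ : IsPiHallOf ps H J := ⟨hHJ, fun q hq hd => ⟨hq, hd⟩, fun q hq hqs hd =>
    hq.ne_one (Nat.eq_one_of_dvd_coprimes hcop hqs.2 (hd.trans (relIndex_mul_index hHJ ▸ dvd_mul_right _ _)))⟩
  obtain ⟨j, hj, hje⟩ := CfsgLib.PGroup.exists_conj_of_isPiHallOf inferInstance hHallJ
    (CfsgLib.PGroup.isPiHallOf_conj hHallJ (g := g) (by rw [normalizer_eq_top_iff.2 hJn]; exact mem_top g))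
  rw [← hsup] at hj
  obtain ⟨d, hd, h, hh, rfl⟩ := exists_mul_of_mem_sup
    (le_top.trans (normalizer_eq_top_iff.2 hDn).ge) hj
  have hn' : d⁻¹ * g ∈ normalizer (H : Set L) := by
    rw [mem_normalizer_iff_conj_smul, ← conj_smul_conj_smul, ← hje, conj_smul_conj_smul,
      inv_mul_cancel_left, conj_smul_self_of_mem_normalizer (le_normalizer hh)]
  refine ⟨d⁻¹ * g, hn', ?_⟩
  set y := d⁻¹ * g * x * (d⁻¹ * g)⁻¹ with hy
  have hyH : y ∈ H := (mem_normalizer_iff.1 hn' x).1 hx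
  have hgy : g * x * g⁻¹ = d * y * d⁻¹ := by rw [hy]; group
  have hcomm : d * y * d⁻¹ * y⁻¹ = 1 := by
    refine mem_bot.1 ((disjoint_of_coprime_natCard hDH).le_bot ⟨?_, ?_⟩)
    · rw [mul_assoc d, mul_assoc d]
      exact D.mul_mem hd (by simpa [mul_assoc] using hDn.conj_mem _ (D.inv_mem hd) y)
    · exact H.mul_mem (by rw [← hgy]; exact hgx) (H.inv_mem hyH)
  rw [hgy, mul_inv_eq_one.1 hcomm]

end Solvable

variable {G : Type u} [Group G] [Finite G]

/-- The same inside a subgroup. -/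
theorem nilpotent_hall_fusion_in (hG : IsMinSimpleOddOrder G)
    (hpl : ∀ (p : ℕ) [Fact p.Prime] (H : Subgroup G), H ≠ ⊤ → PLengthLE p 1 H)
    {L H : Subgroup G} (hL : L ≠ ⊤) (hHL : H ≤ L) (hn : Group.IsNilpotent H)
    (hcop : (Nat.card H).Coprime H.index) {x g : G} (hx : x ∈ H) (hg : g ∈ L)
    (hgx : g * x * g⁻¹ ∈ H) :
    ∃ n ∈ L ⊓ normalizer (H : Set G), n * x * n⁻¹ = g * x * g⁻¹ := by
  have : Group.IsSolvable L := isSolvable_of_ne_top hG hL
  have hn' : Group.IsNilpotent (H.subgroupOf L) :=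
    Group.nilpotent_of_mulEquiv (_h := hn) (subgroupOfEquivOfLe hHL).symm
  have hcop' : (Nat.card (H.subgroupOf L)).Coprime (H.subgroupOf L).index := by
    rw [Nat.card_congr (subgroupOfEquivOfLe hHL).toEquiv]
    exact hcop.coprime_dvd_right (relIndex_mul_index hHL ▸ dvd_mul_right _ _)
  obtain ⟨n, hn1, hn2⟩ := nilpotent_hall_fusion hn' hcop' (fun p _ => hpl p L hL)
    (x := ⟨x, hHL hx⟩) (g := ⟨g, hg⟩) hx hgx
  refine ⟨n, ⟨n.2, ?_⟩, congrArg Subtype.val hn2⟩
  have := le_normalizer_map L.subtype (mem_map_of_mem L.subtype hn1)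
  rwa [subgroupOf_map_subtype, inf_eq_left.2 hHL] at this

variable (hG : IsMinSimpleOddOrder G) (hU : UniqHyp G) (h50 : RankTwoHyp.{u})
  (hpl : ∀ (p : ℕ) [Fact p.Prime] (H : Subgroup G), H ≠ ⊤ → PLengthLE p 1 H)

include hG hU h50 hpl in
/-- The normalizer of a nilpotent Hall subgroup of `G` controls its fusion. -/
theorem minSimple_nilpotent_hall_fusion {H : Subgroup G} (hHn : Group.IsNilpotent H)
    (hHall : (Nat.card H).Coprime H.index) {x g : G} (hx : x ∈ H) (hgx : g * x * g⁻¹ ∈ H) :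
    ∃ n ∈ normalizer (H : Set G), n * x * n⁻¹ = g * x * g⁻¹ := by
  rcases eq_or_ne x 1 with rfl | hx1
  · exact ⟨1, one_mem _, by simp⟩
  obtain ⟨p, hp, hpx⟩ := Nat.exists_prime_and_dvd (fun h => hx1 (orderOf_eq_one_iff.1 h))
  have : Fact p.Prime := ⟨hp⟩
  have hpH : p ∣ Nat.card H := hpx.trans (H.orderOf_dvd_natCard hx)
  obtain ⟨P, hP⟩ := exists_sylIn (p := p) H
  have hPG : SylIn p P ⊤ := by
    refine hP.top_of_index ?_
    rw [← relIndex_mul_index hP.1]
    exact fun h => (hp.dvd_mul.1 h).elim hP.2.2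
      (hp.coprime_iff_not_dvd.1 (Nat.Coprime.coprime_dvd_left hpH hHall))
  obtain ⟨S, rfl⟩ := hPG.exists_sylow_top
  obtain ⟨a, b, hab, ha, hb, ⟨k, hk⟩, hbc⟩ := CfsgLib.Cores.exists_pow_mul_pow p x
  have haH : a ∈ H := zpowers_le.2 hx ha
  have hbH : b ∈ H := zpowers_le.2 hx hb
  have ha1 : a ≠ 1 := by
    rintro rfl
    rw [one_mul] at hab
    subst hab
    exact hp.coprime_iff_not_dvd.1 hbc.symm hpx
  have hHN : H ≤ normalizer ((S : Subgroup G) : Set G) := by
    obtain ⟨T, hT⟩ := hP.exists_sylow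
    have hTn : (T : Subgroup H).Normal :=
      T.normal_of_normalizerCondition Group.normalizerCondition_of_isNilpotent
    intro h hh
    rw [← hT]
    exact le_normalizer_map H.subtype (mem_map_of_mem _ (show (⟨h, hh⟩ : H) ∈ _ from
      (normalizer_eq_top_iff.2 hTn).ge (mem_top _)))
  have hS1 : (S : Subgroup G) ≠ ⊥ := fun e => by
    have h1 := hP.2.2
    rw [e, relIndex_bot_left] at h1
    exact h1 hpH
  set K := (pPrimeCore p H).map H.subtype with hK
  have hnc : HasNormalPComplement p H := CfsgLib.FGS.hasNormalPComplement_of_isNilpotent H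
  have hmemK : ∀ {z : G}, z ∈ H → (orderOf z).Coprime p → z ∈ K := fun {z} hz hzc =>
    ⟨⟨z, hz⟩, (mem_pPrimeCore_iff hnc).2 (by rwa [Subgroup.orderOf_mk]), rfl⟩
  have hmemS : ∀ {z : G}, z ∈ H → (∃ j, orderOf z = p ^ j) → z ∈ (S : Subgroup G) := by
    rintro z hz ⟨j, hj⟩
    exact SylIn.le_of_normal_hall (IsPGroup.of_card (n := j) (by rw [Nat.card_zpowers, hj]))
      (zpowers_le.2 hz) hHN hP.2.2 (mem_zpowers z)
  have hconj : ∀ {u z : G}, orderOf (u * z * u⁻¹) = orderOf z := fun {u z} => by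
    rw [← MulAut.conj_apply, MulEquiv.orderOf_eq]
  have hmem' : ∀ z ∈ zpowers x, g * z * g⁻¹ ∈ H := fun z hz => by
    obtain ⟨i, rfl⟩ := mem_zpowers_iff.1 hz
    rw [← conj_zpow]
    exact zpow_mem hgx i
  -- first move the `p`-part
  obtain ⟨y, hy, hye⟩ := exists_normalizer_conj hG hU h50 hpl S
    (Q := zpowers a) (zpowers_le.2 (hmemS haH ⟨k, hk⟩)) (x := g) (fun q hq => by
      obtain ⟨i, rfl⟩ := mem_zpowers_iff.1 hq
      rw [← conj_zpow]
      exact zpow_mem (hmemS (hmem' a ha) ⟨k, hconj.trans hk⟩) i)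
  have hya := hye a (mem_zpowers a)
  obtain ⟨n1, ⟨-, hn1⟩, hn1e⟩ := nilpotent_hall_fusion_in hG hpl
    (normalizer_ne_top hG hS1 (pGroup_ne_top hG S.isPGroup')) hHN hHn hHall haH hy
    (hya ▸ hmem' a ha)
  set g1 := n1⁻¹ * g with hg1
  have hg1a : g1 * a * g1⁻¹ = a := by
    rw [hg1, show n1⁻¹ * g * a * (n1⁻¹ * g)⁻¹ = n1⁻¹ * (g * a * g⁻¹) * n1 by group, hya, ← hn1e]
    group
  have hg1x : g1 * x * g1⁻¹ ∈ H := by
    rw [hg1, show n1⁻¹ * g * x * (n1⁻¹ * g)⁻¹ = n1⁻¹ * (g * x * g⁻¹) * n1⁻¹⁻¹ by group]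
    exact (mem_normalizer_iff.1 (inv_mem hn1) _).1 hgx
  suffices hsuff : ∃ n ∈ normalizer (H : Set G), n * x * n⁻¹ = g1 * x * g1⁻¹ by
    obtain ⟨n, hn, hne⟩ := hsuff
    refine ⟨n1 * n, mul_mem hn1 hn, ?_⟩
    rw [show n1 * n * x * (n1 * n)⁻¹ = n1 * (n * x * n⁻¹) * n1⁻¹ by group, hne, hg1]
    group
  rcases eq_or_ne b 1 with rfl | hb1
  · rw [mul_one] at hab
    subst hab
    exact ⟨1, one_mem _, by rw [hg1a]; simp⟩
  have hg1b : g1 * b * g1⁻¹ ∈ H := by
    have h1 : g1 * b * g1⁻¹ = (g1 * a * g1⁻¹)⁻¹ * (g1 * x * g1⁻¹) := by rw [hab]; group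
    rw [h1, hg1a]
    exact mul_mem (inv_mem haH) hg1x
  have hbK : b ∈ K := hmemK hbH hbc
  have hK1 : K ≠ ⊥ := fun e => hb1 (mem_bot.1 (e ▸ hbK))
  have hKH : K ≤ H := map_subtype_le _
  have hKn : Group.IsNilpotent K :=
    Group.nilpotent_of_mulEquiv (_h := (inferInstance : Group.IsNilpotent ↥(pPrimeCore p H)))
      (equivMapOfInjective _ _ H.subtype_injective)
  have hKcop : (Nat.card K).Coprime K.index := by
    have hKc : Nat.card K = Nat.card (pPrimeCore p H) := card_map_of_injective H.subtype_injective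
    obtain ⟨j, hj⟩ := index_pPrimeCore_eq_pow hnc
    rw [hKc, hK, index_map_subtype, hj]
    exact Nat.Coprime.mul_right (Nat.Coprime.pow_right j (CfsgLib.Cores.coprime_card_pPrimeCore p))
      (hHall.coprime_dvd_left (card_subgroup_dvd_card _))
  have hKa : K ≤ centralizer ({a} : Set G) := by
    rintro _ ⟨z, hz, rfl⟩
    refine mem_centralizer_singleton_iff.2 (CfsgLib.OddLocal.commute_of_mem_nilpotent hHn z.2 haH ?_)
    show (orderOf (z : G)).Coprime (orderOf a)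
    rw [hk, Subgroup.orderOf_coe]
    exact Nat.Coprime.pow_right k ((mem_pPrimeCore_iff hnc).1 hz)
  have hKtop : K ≠ ⊤ := fun e => by
    have hC : centralizer (zpowers a : Set G) = ⊤ := by
      rw [zpowers_eq_closure, centralizer_closure]
      exact top_le_iff.1 (e.ge.trans hKa)
    exact centralizer_ne_top hG (zpowers_ne_bot.2 ha1) hC
  have hCa : centralizer ({a} : Set G) ≠ ⊤ := by
    rw [← centralizer_closure, ← zpowers_eq_closure]
    exact centralizer_ne_top hG (zpowers_ne_bot.2 ha1)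
  obtain ⟨n2, ⟨hn2a, hn2K⟩, hn2e⟩ := nilpotent_hall_fusion_in hG hpl hCa hKa hKn hKcop hbK
    (mem_centralizer_singleton_iff.2 (mul_inv_eq_iff_eq_mul.1 hg1a))
    (hmemK hg1b (hconj.symm ▸ hbc))
  have hn2x : n2 * x * n2⁻¹ = g1 * x * g1⁻¹ := by
    have e := mul_inv_eq_iff_eq_mul.2 (mem_centralizer_singleton_iff.1 hn2a)
    rw [hab, show n2 * (a * b) * n2⁻¹ = (n2 * a * n2⁻¹) * (n2 * b * n2⁻¹) by group, e, hn2e,
      show g1 * (a * b) * g1⁻¹ = (g1 * a * g1⁻¹) * (g1 * b * g1⁻¹) by group, hg1a]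
  have hHNK : H ≤ normalizer (K : Set G) := fun h hh => le_normalizer_map H.subtype
    (mem_map_of_mem _ (show (⟨h, hh⟩ : H) ∈ _ from
      (normalizer_eq_top_iff.2 (inferInstance : (pPrimeCore p H).Normal)).ge (mem_top _)))
  obtain ⟨n3, ⟨-, hn3⟩, hn3e⟩ := nilpotent_hall_fusion_in hG hpl (normalizer_ne_top hG hK1 hKtop)
    hHNK hHn hHall hx hn2K (hn2x ▸ hg1x)
  exact ⟨n3, hn3, hn3e.trans hn2x⟩

end CfsgLib.OddLocal.Ten
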