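import Cfsg.Agent.Lib.OddLocal.Ten.Hyp

/-!
The primes in `σ(M)`: a Sylow subgroup of `M` is Sylow in the whole group; `α(M) ⊆ σ(M)`.
-/

set_option autoImplicit false

namespace CfsgLib.OddLocal.Ten

open Cfsg Subgroup CfsgLib.Solvable
open scoped Pointwise

variable {G : Type*} [Group G] [Finite G] {p : ℕ} {M : Subgroup G}

theorem exists_coatom_ge {H : Subgroup G} (hH : H ≠ ⊤) : ∃ L : Subgroup G, IsCoatom L ∧ H ≤ L :=
  (eq_top_or_exists_le_coatom H).resolve_left hH

omit [Finite G] in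
theorem InUniqueMaximal.eq_of_le {X L L' : Subgroup G} (h : InUniqueMaximal X) (hL : IsCoatom L)
    (hL' : IsCoatom L') (hX : X ≤ L) (hX' : X ≤ L') : L = L' :=
  h.unique ⟨hL, hX⟩ ⟨hL', hX'⟩

theorem InUniqueMaximal.le_of_le {X H : Subgroup G} (h : InUniqueMaximal X) (hM : IsCoatom M)
    (hXM : X ≤ M) (hH : H ≠ ⊤) (hXH : X ≤ H) : H ≤ M := by
  obtain ⟨L, hL, hHL⟩ := exists_coatom_ge hH
  exact InUniqueMaximal.eq_of_le h hL hM (hXH.trans hHL) hXM ▸ hHL

omit [Finite G] in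
theorem normalizer_conj_smul (g : G) (H : Subgroup G) :
    normalizer ((MulAut.conj g • H : Subgroup G) : Set G) = MulAut.conj g • normalizer (H : Set G) := by
  rw [conj_smul_eq_map, conj_smul_eq_map, ← map_equiv_normalizer_eq]

theorem normalizer_sylIn_le (h : p ∈ sigma M) {P : Subgroup G} (hP : SylIn p P M) :
    normalizer (P : Set G) ≤ M := by
  obtain ⟨hp, -, S, hS⟩ := h
  have : Fact p.Prime := ⟨hp⟩
  obtain ⟨g, hg, rfl⟩ := hP.exists_conj_eq (sylIn_map S)
  rw [normalizer_conj_smul]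
  exact (conj_smul_mono g hS).trans (conj_smul_self_of_mem_normalizer (le_normalizer hg)).le

theorem sylIn_top_of_sigma (h : p ∈ sigma M) {P : Subgroup G} (hP : SylIn p P M) : SylIn p P ⊤ := by
  have : Fact p.Prime := ⟨h.1⟩
  by_contra hns
  obtain ⟨Y, hY, hYp, -, hYN⟩ := exists_gt_normalizer hP.2.1 le_top hns
  exact hY.ne (hP.eq_of_le hYp (hYN.trans (normalizer_sylIn_le h hP)) hY.le)

theorem not_dvd_index_of_sigma (h : p ∈ sigma M) : ¬ p ∣ M.index := by
  have : Fact p.Prime := ⟨h.1⟩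
  obtain ⟨P, hP⟩ := exists_sylIn (p := p) M
  have h1 := (sylIn_top_of_sigma h hP).2.2
  rw [relIndex_top_right] at h1
  exact fun hd => h1 (hd.trans (index_dvd_of_le hP.1))

theorem mem_sigma_of_normalizer_le [Fact p.Prime] {P : Subgroup G} (hd : p ∣ Nat.card M)
    (hP : SylIn p P M) (hN : normalizer (P : Set G) ≤ M) : p ∈ sigma M := by
  obtain ⟨S, rfl⟩ := hP.exists_sylow
  exact ⟨Fact.out, hd, S, hN⟩

omit [Finite G] in
theorem ne_bot_of_sigma (h : p ∈ sigma M) {P : Subgroup G} (hP : SylIn p P M) : P ≠ ⊥ := by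
  rintro rfl
  have h1 := hP.2.2
  rw [relIndex_bot_left] at h1
  exact h1 h.2.1

/-- A Sylow subgroup of `G` whose normalizer lies in `M`. -/
theorem mem_sigma_of_sylow [Fact p.Prime] {P : Subgroup G}
    (hP : SylIn p P ⊤) (hd : p ∣ Nat.card G) (hN : normalizer (P : Set G) ≤ M) : p ∈ sigma M := by
  have hPM : P ≤ M := le_normalizer.trans hN
  refine mem_sigma_of_normalizer_le ?_ (hP.of_le hPM le_top) hN
  by_contra hcon
  have h1 := hP.2.2
  rw [relIndex_top_right] at h1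
  rw [← P.card_mul_index] at hd
  exact hcon ((((Fact.out : p.Prime).dvd_mul.1 hd).resolve_right h1).trans (card_dvd_of_le hPM))

variable (hG : IsMinSimpleOddOrder G) (hU : UniqHyp G)
include hU

omit [Finite G] in
/-- A subgroup of rank three lies in only one maximal subgroup. -/
theorem inUniqueMaximal_of_elemAb {q : ℕ} [Fact q.Prime] {K A : Subgroup G} (hK : K ≠ ⊤) (hAK : A ≤ K)
    (hA : IsElementaryAbelian q A) (hc : Nat.card A = q ^ 3) : InUniqueMaximal K :=
  hU K hK (not_rankLE_of_elemAb hAK hA hc (by norm_num))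
    (Or.inl (not_rankLE_of_elemAb hAK hA hc (by norm_num)))

include hG in
theorem alpha_subset_sigma (hM : IsCoatom M) : alpha M ⊆ sigma M := by
  rintro p ⟨hp, hr⟩
  have : Fact p.Prime := ⟨hp⟩
  obtain ⟨P, hP⟩ := exists_sylIn (p := p) M
  obtain ⟨A, hAP, hA, hc⟩ := hP.exists_elemAb hr
  have hPne : P ≠ ⊥ := by
    rintro rfl
    rw [le_bot_iff.1 hAP, card_bot] at hc
    exact (Nat.one_lt_pow (by norm_num) hp.one_lt).ne hc
  refine mem_sigma_of_normalizer_le (dvd_card_of_not_pRankLE hr) hP ?_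
  exact InUniqueMaximal.le_of_le (inUniqueMaximal_of_elemAb hU (pGroup_ne_top hG hP.2.1) hAP hA hc) hM
    hP.1 (normalizer_ne_top hG hPne (pGroup_ne_top hG hP.2.1)) le_normalizer

end CfsgLib.OddLocal.Ten
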